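import Mathlib

/-!
Eigenfunctionals for an automorphism of order dividing `q - 1`, and bilinear maps on the field with
`q` elements that are semi-invariant under multiplication by a generator.
-/

set_option autoImplicit false
set_option linter.unusedSectionVars false

namespace CfsgLib.OneSeen

universe u v

variable {F : Type u} [Field F] [Finite F] {p n : ℕ} [Fact p.Prime] [CharP F p] (hq : Nat.card F = p ^ n)

include hq

theorem n_pos : 0 < n := by
  rcases Nat.eq_zero_or_pos n with h | h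
  · exfalso
    have := Finite.one_lt_card (α := F)
    rw [hq, h, pow_zero] at this
    exact lt_irrefl 1 this
  · exact h

/-- A proper nonzero additive subgroup stable under `t` forces `t` into a proper subfield. -/
theorem exists_pow_eq (I : AddSubgroup F) (hI : I ≠ ⊥) (hcard : Nat.card I < Nat.card F) (t : F)
    (ht : ∀ x ∈ I, t * x ∈ I) :
    ∃ d, 0 < d ∧ d ∣ n ∧ d < n ∧ t ^ p ^ d = t := by
  classical
  let R : Subring F :=
    { carrier := {s | ∀ x ∈ I, s * x ∈ I}
      mul_mem' := fun ha hb x hx => by rw [mul_assoc]; exact ha _ (hb x hx)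
      one_mem' := fun x hx => by rwa [one_mul]
      add_mem' := fun ha hb x hx => by rw [add_mul]; exact I.add_mem (ha x hx) (hb x hx)
      zero_mem' := fun x hx => by rw [zero_mul]; exact I.zero_mem
      neg_mem' := fun ha x hx => by rw [neg_mul]; exact I.neg_mem (ha x hx) }
  let E : Subfield F :=
    { R with
      inv_mem' := fun s hs => by
        rcases eq_or_ne s 0 with rfl | hne
        · rw [inv_zero]; exact R.zero_mem
        · have := Fintype.ofFinite F
          have h1 : s⁻¹ = s ^ (Fintype.card F - 2) := by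
            refine (eq_inv_of_mul_eq_one_left ?_).symm
            have h2 := Fintype.one_lt_card (α := F)
            rw [← pow_succ, show Fintype.card F - 2 + 1 = Fintype.card F - 1 by omega]
            exact FiniteField.pow_card_sub_one_eq_one s hne
          rw [h1]
          exact R.pow_mem hs _ }
  obtain ⟨c, hcI, hc0⟩ : ∃ c ∈ I, c ≠ (0 : F) := by
    by_contra hc
    push Not at hc
    exact hI ((AddSubgroup.eq_bot_iff_forall I).mpr hc)
  have hEI : Nat.card E ≤ Nat.card I :=
    Nat.card_le_card_of_injective (fun s => (⟨(s : F) * c, s.2 c hcI⟩ : I)) fun a b h =>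
      Subtype.ext (mul_right_cancel₀ hc0 (congrArg Subtype.val h))
  have htE : t ∈ E := ht
  have := Fintype.ofFinite F
  have := Fintype.ofFinite E
  have : CharP E p := (E.subtype.charP_iff E.subtype.injective p).mpr inferInstance
  obtain ⟨d, hdp, hd⟩ := FiniteField.card E p
  rw [← Nat.card_eq_fintype_card] at hd
  have hk := Module.natCard_eq_pow_finrank (K := E) (V := F)
  have hdvd : (d : ℕ) ∣ n := by
    refine ⟨Module.finrank E F, Nat.pow_right_injective (Fact.out : p.Prime).two_le ?_⟩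
    show p ^ n = p ^ ((d : ℕ) * Module.finrank E F)
    rw [pow_mul, ← hd, ← hk, hq]
  refine ⟨d, d.pos, hdvd, ?_, ?_⟩
  · by_contra hle
    push Not at hle
    have : Nat.card F ≤ Nat.card E := by
      rw [hq, hd]
      exact Nat.pow_le_pow_right (Fact.out : p.Prime).pos hle
    omega
  · have h1 := FiniteField.pow_card (⟨t, htE⟩ : E)
    rw [← Nat.card_eq_fintype_card, hd] at h1
    exact congrArg Subtype.val h1

theorem frob_exists (φ : F →+* F) : ∃ i, ∀ x, φ x = x ^ p ^ i := by
  let _ : Algebra (ZMod p) F := ZMod.algebra F p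
  obtain ⟨i, hi⟩ := (FiniteField.bijective_frobeniusAlgHom_pow (ZMod p) F).2
    { φ with commutes' := fun r => RingHom.congr_fun (RingHom.ext_zmod (φ.comp (algebraMap (ZMod p) F)) (algebraMap (ZMod p) F)) r }
  refine ⟨i.1, fun x => ?_⟩
  have h1 := (AlgHom.congr_fun hi x).symm
  simp only at h1
  rw [AlgHom.coe_pow, FiniteField.coe_frobeniusAlgHom, pow_iterate, ZMod.card] at h1
  exact h1

variable (ω : Fˣ) (hω : ∀ x : Fˣ, ∃ k : ℕ, ω ^ k = x)

include hω

theorem exists_pow_of_ne_zero {x : F} (hx : x ≠ 0) : ∃ k : ℕ, (ω : F) ^ k = x := by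
  obtain ⟨k, hk⟩ := hω (Units.mk0 x hx)
  exact ⟨k, by rw [← Units.val_pow_eq_pow_val, hk]; rfl⟩

theorem orderOf_omega : orderOf ω = p ^ n - 1 := by
  rw [orderOf_eq_card_of_forall_mem_zpowers fun x => ?_, Nat.card_units, hq]
  obtain ⟨k, hk⟩ := hω x
  exact ⟨k, by simp [hk]⟩

/-- A semi-invariant nonzero additive function is a multiple of a Frobenius power. -/
theorem eigen_add (h : F →+ F) (hne : h ≠ 0) (κ : F) (heq : ∀ u, h (ω * u) = κ * h u) :
    ∃ i, κ = (ω : F) ^ p ^ i := by
  have hpw : ∀ (k : ℕ) u, h ((ω : F) ^ k * u) = κ ^ k * h u := by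
    intro k
    induction k with
    | zero => intro u; simp
    | succ k ih => intro u; rw [pow_succ, mul_assoc, ih, heq, pow_succ, mul_assoc]
  have h1 : h 1 ≠ 0 := by
    intro h0
    refine hne (AddMonoidHom.ext fun x => ?_)
    rcases eq_or_ne x 0 with rfl | hx
    · rw [map_zero, map_zero]
    · obtain ⟨k, rfl⟩ := exists_pow_of_ne_zero hq ω hω hx
      rw [← mul_one ((ω : F) ^ k), hpw, h0, mul_zero]; rfl
  let φ : F →+* F :=
    { toFun := fun u => h u / h 1
      map_one' := div_self h1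
      map_zero' := by simp
      map_add' := fun a b => by rw [map_add, add_div]
      map_mul' := fun a b => by
        rcases eq_or_ne a 0 with rfl | ha
        · simp
        · obtain ⟨k, rfl⟩ := exists_pow_of_ne_zero hq ω hω ha
          have e1 : h ((ω : F) ^ k) = κ ^ k * h 1 := by rw [← hpw, mul_one]
          rw [hpw, e1]
          field_simp }
  obtain ⟨i, hi⟩ := frob_exists hq φ
  refine ⟨i, ?_⟩
  have h2 := hi ω
  have h3 : φ ω = κ := by
    show h ω / h 1 = κ
    rw [← mul_one (ω : F), heq, mul_div_assoc, div_self h1, mul_one]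
  rw [← h3, h2]

omit hω in
/-- Averaging a function over the powers of `T` gives eigenfunctions, summing to its negative. -/
theorem eigen_sum {V : Type v} [AddCommGroup V] {W : Type*} [AddCommGroup W] [Module F W]
    (T : V →+ V) (hT : ∀ z, T^[p ^ n - 1] z = z) (lam : V →+ W) :
    ∃ e : Fˣ → (V →+ W), (∀ η z, e η (T z) = (η : F) • e η z) ∧
      (∀ η z, e η z = ∑ k ∈ Finset.range (p ^ n - 1), ((η⁻¹ : Fˣ) : F) ^ k • lam (T^[k] z)) ∧
      ∀ z, (∀ η, e η z = 0) → lam z = 0 := by
  classical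
  have := Fintype.ofFinite F
  set N := p ^ n - 1 with hN
  have hqN : Fintype.card F - 1 = N := by rw [← Nat.card_eq_fintype_card, hq]
  have hTadd : ∀ (k : ℕ) a b, T^[k] (a + b) = T^[k] a + T^[k] b := fun k a b => by
    induction k with
    | zero => rfl
    | succ k ih => simp only [Function.iterate_succ_apply', ih, map_add]
  have hNpos : 0 < N := by
    have := Fintype.one_lt_card (α := F)
    omega
  refine ⟨fun η => AddMonoidHom.mk' (fun z => ∑ k ∈ Finset.range N, ((η⁻¹ : Fˣ) : F) ^ k • lam (T^[k] z)) ?_,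
    fun η z => ?_, fun _ _ => rfl, fun z hz => ?_⟩
  · intro a b
    simp only [hTadd, map_add, smul_add, Finset.sum_add_distrib]
  · simp only [AddMonoidHom.mk'_apply, Finset.smul_sum, ← Function.iterate_succ_apply]
    set a : ℕ → W := fun k => (η : F) • (((η⁻¹ : Fˣ) : F) ^ k • lam (T^[k] z)) with ha
    have h1 : ∀ k, ((η⁻¹ : Fˣ) : F) ^ k • lam (T^[k + 1] z) = a (k + 1) := fun k => by
      simp only [ha, pow_succ', smul_smul]
      rw [← mul_assoc, Units.mul_inv, one_mul]
    simp only [h1]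
    have h2 := Finset.sum_range_succ' a N
    rw [Finset.sum_range_succ] at h2
    have h3 : a N = a 0 := by
      simp only [ha, hT, Function.iterate_zero_apply, pow_zero]
      congr 2
      rw [← hqN, ← Units.val_pow_eq_pow_val, inv_pow]
      have h4 : η ^ (Fintype.card F - 1) = 1 := by
        rw [← Fintype.card_units]; exact pow_card_eq_one
      rw [h4, inv_one, Units.val_one]
    rw [h3] at h2
    exact (add_right_cancel h2).symm
  · simp only [AddMonoidHom.mk'_apply] at hz
    have h0 : ∑ η : Fˣ, ∑ k ∈ Finset.range N, ((η⁻¹ : Fˣ) : F) ^ k • lam (T^[k] z) = (0 : W) :=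
      Finset.sum_eq_zero fun η _ => hz η
    rw [Finset.sum_comm] at h0
    simp only [← Finset.sum_smul] at h0
    have h1 : ∀ k, ∑ η : Fˣ, ((η⁻¹ : Fˣ) : F) ^ k = if N ∣ k then -1 else 0 := fun k => by
      rw [← hqN, ← FiniteField.sum_pow_units (K := F)]
      exact Equiv.sum_comp (Equiv.inv Fˣ) fun x : Fˣ => (x : F) ^ k
    rw [Finset.sum_congr rfl fun k _ => by rw [h1],
      Finset.sum_eq_single_of_mem 0 (Finset.mem_range.mpr hNpos)] at h0
    · simpa using h0
    · intro k hk hk0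
      rw [if_neg fun hd => (Nat.le_of_dvd (Nat.pos_of_ne_zero hk0) hd).not_gt (Finset.mem_range.mp hk),
        zero_smul]

/-- A semi-invariant bilinear map has multiplier a product of two Galois conjugates of `ω`. -/
theorem eigen_biadd (f : F →+ F →+ F) (hne : f ≠ 0) (η : F)
    (heq : ∀ u v, f (ω * u) (ω * v) = η * f u v) :
    ∃ i j, η = (ω : F) ^ (p ^ i + p ^ j) := by
  classical
  set T := AddMonoidHom.mulLeft (ω : F) with hTdef
  have hTk : ∀ (k : ℕ) z, T^[k] z = (ω : F) ^ k * z := fun k z => by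
    induction k generalizing z with
    | zero => simp
    | succ k ih => rw [Function.iterate_succ_apply, ih, hTdef, AddMonoidHom.coe_mulLeft]; ring
  have hT : ∀ z, T^[p ^ n - 1] z = z := fun z => by
    rw [hTk, ← orderOf_omega hq ω hω, ← Units.val_pow_eq_pow_val, pow_orderOf_eq_one, Units.val_one, one_mul]
  obtain ⟨e, he, hform, he'⟩ := eigen_sum hq T hT f
  obtain ⟨κ, hκ⟩ : ∃ κ, e κ ≠ 0 := by
    by_contra h
    push Not at h
    exact hne (AddMonoidHom.ext fun u => he' u fun κ => by rw [h κ]; rfl)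
  obtain ⟨u0, v0, huv⟩ : ∃ u v, e κ u v ≠ 0 := by
    by_contra h
    push Not at h
    exact hκ (AddMonoidHom.ext fun u => AddMonoidHom.ext fun v => by simpa using h u v)
  have hs1 : ∀ u v, e κ ((ω : F) * u) v = κ * e κ u v := fun u v => DFunLike.congr_fun (he κ u) v
  obtain ⟨i, hi⟩ := eigen_add hq ω hω ((e κ).flip v0)
    (fun h => huv (DFunLike.congr_fun h u0)) κ fun u => hs1 u v0
  obtain ⟨j, hj⟩ := eigen_add hq ω hω (e κ u0) (fun h => huv (DFunLike.congr_fun h v0)) (η / κ) fun w => by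
    rw [div_mul_eq_mul_div, eq_div_iff κ.ne_zero, mul_comm, ← hs1, hform, hform,
      AddMonoidHom.finsetSum_apply, AddMonoidHom.finsetSum_apply, Finset.mul_sum]
    refine Finset.sum_congr rfl fun k _ => ?_
    rw [hTk, hTk, mul_left_comm ((ω : F) ^ k)]
    show _ * f _ _ = η * (_ * f _ _)
    rw [heq]
    ring
  exact ⟨i, j, by rw [pow_add, ← hi, ← hj, mul_div_cancel₀ _ κ.ne_zero]⟩

omit hω in
theorem pow_exponent_contra {d k : ℕ} (hd : 0 < d) {t : ℕ} (ht : 3 ≤ t) (hn : n = d * t) (hk : k < n)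
    (hdvd : p ^ n - 1 ∣ (1 + p ^ k) * (p ^ d - 1)) : n = 0 := by
  have hp := (Fact.out : p.Prime).two_le
  subst hn
  obtain ⟨A, hA⟩ := Nat.pow_sub_one_dvd_pow_sub_one p (Dvd.intro t rfl : d ∣ d * t)
  have hdpos : 0 < p ^ d - 1 := Nat.sub_pos_of_lt (Nat.one_lt_pow hd.ne' hp)
  have hA1 : A ∣ 1 + p ^ k := by
    rw [hA, mul_comm (1 + p ^ k)] at hdvd
    exact Nat.dvd_of_mul_dvd_mul_left hdpos hdvd
  have hA2 : A ∣ p ^ (d * t) - 1 := Dvd.intro_left _ hA.symm
  have hA3 : A ∣ p ^ (2 * k) - 1 := by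
    refine hA1.trans ⟨p ^ k - 1, ?_⟩
    rw [Nat.add_comm 1, ← Nat.sq_sub_sq (p ^ k) 1, one_pow, ← pow_mul, mul_comm k]
  have hA4 : A ∣ p ^ Nat.gcd (2 * k) (d * t) - 1 := by
    rw [← Nat.pow_sub_one_gcd_pow_sub_one]
    exact Nat.dvd_gcd hA3 hA2
  have hAbig : p ^ (d * (t - 1)) < A := by
    have h1 : p ^ (d * (t - 1)) * (p ^ d - 1) < p ^ (d * t) - 1 := by
      rw [Nat.mul_sub, mul_one, ← pow_add, ← Nat.mul_succ, Nat.succ_eq_add_one,
        Nat.sub_add_cancel (by omega : 1 ≤ t)]
      have h2 : p ≤ p ^ (d * (t - 1)) := Nat.le_self_pow (Nat.mul_ne_zero hd.ne' (by omega)) p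
      have h3 : p ^ (d * (t - 1)) ≤ p ^ (d * t) := Nat.pow_le_pow_right (by omega) (by
        exact Nat.mul_le_mul_left d (by omega))
      omega
    rw [hA, mul_comm] at h1
    exact Nat.lt_of_mul_lt_mul_left h1
  have hhalf : d * t ≤ 2 * (d * (t - 1)) := by
    obtain ⟨s, rfl⟩ : ∃ s, t = s + 1 := ⟨t - 1, by omega⟩
    have : d * 2 ≤ d * s := Nat.mul_le_mul_left d (by omega)
    rw [Nat.add_sub_cancel, Nat.mul_succ]
    omega
  rcases Nat.eq_zero_or_pos k with rfl | hkpos
  · exfalso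
    have := Nat.le_of_dvd (by norm_num) hA1
    have h2 : p ≤ p ^ (d * (t - 1)) := Nat.le_self_pow (Nat.mul_ne_zero hd.ne' (by omega)) p
    simp at this
    omega
  rcases eq_or_ne (Nat.gcd (2 * k) (d * t)) (d * t) with hg | hg
  · exfalso
    have h2 : d * t ∣ 2 * k := hg ▸ Nat.gcd_dvd_left _ _
    obtain ⟨c, hc⟩ := h2
    have hc1 : c = 1 := by
      rcases c with _ | _ | c
      · omega
      · rfl
      · exfalso
        have : d * t * 2 ≤ d * t * (c + 1 + 1) := Nat.mul_le_mul_left _ (by omega)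
        omega
    subst hc1
    have h3 := Nat.le_of_dvd (by positivity) hA1
    have h4 : k < d * (t - 1) := by
      rw [mul_one] at hc
      have : d * 2 ≤ d * (t - 1) := Nat.mul_le_mul_left d (by omega)
      have e1 : d * t = d * (t - 1) + d := by
        conv_lhs => rw [← Nat.sub_add_cancel (show 1 ≤ t by omega), Nat.mul_succ]
      omega
    have h5 : p ^ (k + 1) ≤ p ^ (d * (t - 1)) := Nat.pow_le_pow_right (by omega) h4
    have h6 : 2 * p ^ k ≤ p ^ (k + 1) := by rw [pow_succ, mul_comm 2]; exact Nat.mul_le_mul_left _ hp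
    have : 1 ≤ p ^ k := Nat.one_le_pow _ _ (by omega)
    omega
  · exfalso
    have hg1 : 2 * Nat.gcd (2 * k) (d * t) ≤ d * t := by
      obtain ⟨c, hc⟩ := Nat.gcd_dvd_right (2 * k) (d * t)
      rcases c with _ | _ | c
      · have : 0 < d * t := Nat.mul_pos hd (by omega)
        omega
      · exact absurd (by simpa using hc.symm) hg
      · have := Nat.mul_le_mul_left (Nat.gcd (2 * k) (d * t)) (show 2 ≤ c + 1 + 1 by omega)
        omega
    have hgpos : 0 < Nat.gcd (2 * k) (d * t) := Nat.gcd_pos_of_pos_left _ (by omega)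
    have h5 : p ^ Nat.gcd (2 * k) (d * t) ≤ p ^ (d * (t - 1)) :=
      Nat.pow_le_pow_right (by omega) (by omega)
    have h6 := Nat.le_of_dvd (Nat.sub_pos_of_lt (Nat.one_lt_pow hgpos.ne' hp)) hA4
    omega

/-- If `ω ^ (p ^ i + p ^ j)` lies in a proper subfield, it is fixed by the Frobenius of order two. -/
theorem pow_half {i j d : ℕ} (hd : 0 < d) (hdn : d ∣ n) (hdlt : d < n)
    (h : ((ω : F) ^ (p ^ i + p ^ j)) ^ p ^ d = (ω : F) ^ (p ^ i + p ^ j)) :
    Even n ∧ ((ω : F) ^ (p ^ i + p ^ j)) ^ (p ^ (n / 2) - 1) = 1 := by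
  obtain ⟨t, rfl⟩ := hdn
  set η := (ω : F) ^ (p ^ i + p ^ j) with hη
  have hη0 : η ≠ 0 := pow_ne_zero _ ω.ne_zero
  have hfix : ∀ m, η ^ p ^ (d * m) = η := fun m => by
    induction m with
    | zero => simp
    | succ m ih => rw [Nat.mul_succ, pow_add, pow_mul, ih, h]
  rcases Nat.even_or_odd t with ⟨m, rfl⟩ | hodd
  · refine ⟨⟨d * m, by rw [Nat.mul_add]⟩, ?_⟩
    rw [show d * (m + m) / 2 = d * m by rw [Nat.mul_add]; omega]
    have hpos : 1 ≤ p ^ (d * m) := Nat.one_le_pow _ _ (Fact.out : p.Prime).pos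
    refine mul_left_cancel₀ hη0 ?_
    rw [← pow_succ', Nat.sub_add_cancel hpos, hfix, mul_one]
  · exfalso
    have ht : 3 ≤ t := by
      rcases hodd with ⟨s, rfl⟩
      rcases s with _ | s
      · simp at hdlt
      · omega
    have hpp := (Fact.out : p.Prime).pos
    have hsub : η ^ (p ^ d - 1) = 1 := by
      refine mul_left_cancel₀ hη0 ?_
      rw [← pow_succ', Nat.sub_add_cancel (Nat.one_le_pow _ _ hpp), h, mul_one]
    set n := d * t with hn
    have hnp : 0 < n := n_pos hq
    set i0 := i % n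
    set j0 := j % n
    have hord : ∀ e, (ω : F) ^ e = 1 ↔ p ^ n - 1 ∣ e := fun e => by
      rw [← orderOf_omega hq ω hω, orderOf_dvd_iff_pow_eq_one, ← Units.val_pow_eq_pow_val,
        Units.val_eq_one]
    have hred : ∀ s, p ^ s % (p ^ n - 1) = p ^ (s % n) % (p ^ n - 1) := fun s => by
      have h1 : p ^ n ≡ 1 [MOD p ^ n - 1] := by
        obtain ⟨r, hr⟩ : ∃ r, p ^ n = r + 1 :=
          ⟨p ^ n - 1, (Nat.sub_add_cancel (Nat.one_le_pow _ _ hpp)).symm⟩
        rw [hr, Nat.add_sub_cancel]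
        exact Nat.add_modEq_left
      have h4 := (h1.pow (s / n)).mul_left (p ^ (s % n))
      rw [one_pow, mul_one, ← pow_mul, ← pow_add, Nat.mod_add_div] at h4
      exact h4
    have h2 : p ^ n - 1 ∣ (p ^ i + p ^ j) * (p ^ d - 1) * p ^ (n - i % n) := by
      refine Dvd.dvd.mul_right ?_ _
      rw [← hord, pow_mul]
      exact hsub
    obtain ⟨k, hk, hk2⟩ : ∃ k < n, ((p ^ i + p ^ j) * p ^ (n - i % n)) % (p ^ n - 1) = (1 + p ^ k) % (p ^ n - 1) := by
      refine ⟨(j + (n - i % n)) % n, Nat.mod_lt _ hnp, ?_⟩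
      rw [add_mul, ← pow_add, ← pow_add, Nat.add_mod, hred (i + (n - i % n)), hred (j + (n - i % n))]
      have : (i + (n - i % n)) % n = 0 := by
        have := Nat.mod_lt i hnp
        have e1 := Nat.mod_add_div i n
        rw [show i + (n - i % n) = n * (i / n) + n by omega, Nat.add_mod_right, Nat.mul_mod_right]
      rw [this, pow_zero, ← Nat.add_mod]
    have h3 : p ^ n - 1 ∣ (1 + p ^ k) * (p ^ d - 1) := by
      refine Nat.dvd_of_mod_eq_zero ?_
      rw [Nat.mul_mod, ← hk2, ← Nat.mul_mod]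
      refine Nat.mod_eq_zero_of_dvd ?_
      rw [mul_right_comm] at h2
      exact h2
    exact hnp.ne' (pow_exponent_contra hq hd ht hn hk h3)

/-- Powers of `ω` acting irreducibly on the field. -/
theorem irreducible_pow {m : ℕ} (hm : m = if Even n then p ^ (n / 2) - 1 else 1) (W : AddSubgroup F)
    (hW : ∀ x ∈ W, (ω : F) ^ m * x ∈ W) : W = ⊥ ∨ Nat.card W = Nat.card F := by
  rcases eq_or_ne W ⊥ with h | h
  · exact Or.inl h
  refine Or.inr (le_antisymm (Nat.card_le_card_of_injective _ Subtype.val_injective) (le_of_not_gt fun hlt => ?_))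
  obtain ⟨d, hd, hdn, hdlt, hfix⟩ := exists_pow_eq hq W h hlt _ hW
  have hp := (Fact.out : p.Prime).two_le
  have h1 : 1 ≤ p ^ d := Nat.one_le_pow _ _ (by omega)
  have h2 : p ^ n - 1 ∣ m * (p ^ d - 1) := by
    rw [← orderOf_omega hq ω hω, orderOf_dvd_iff_pow_eq_one, ← Units.val_eq_one, Units.val_pow_eq_pow_val]
    refine mul_left_cancel₀ (pow_ne_zero m ω.ne_zero) ?_
    rw [pow_mul, ← pow_succ', Nat.sub_add_cancel h1, hfix, mul_one]
  have hdhalf : 2 * d ≤ n := by
    obtain ⟨c, rfl⟩ := hdn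
    rcases c with _ | _ | c
    · simp at hdlt
    · simp at hdlt
    · have := Nat.mul_le_mul_left d (show 2 ≤ c + 1 + 1 by omega)
      omega
  have h3 : 2 ≤ p ^ d := le_trans hp (Nat.le_self_pow hd.ne' p)
  have hmpos : 0 < m := by
    rw [hm]; split
    · exact Nat.sub_pos_of_lt (Nat.one_lt_pow (by omega) hp)
    · exact one_pos
  have h4 := Nat.le_of_dvd (Nat.mul_pos hmpos (by omega)) h2
  have h5 : p ^ d ≤ p ^ (n / 2) := Nat.pow_le_pow_right (by omega) (by omega)
  have h6 : p ^ (n / 2) * p ^ (n / 2) ≤ p ^ n := by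
    rw [← pow_add]; exact Nat.pow_le_pow_right (by omega) (by omega)
  have h7 : m ≤ p ^ (n / 2) - 1 := by
    rw [hm]; split
    · exact le_rfl
    · omega
  have h8 : m * (p ^ d - 1) ≤ (p ^ (n / 2) - 1) * (p ^ (n / 2) - 1) :=
    Nat.mul_le_mul h7 (by omega)
  have h9 : (p ^ (n / 2) - 1) * (p ^ (n / 2) - 1) + 2 * p ^ (n / 2) = p ^ (n / 2) * p ^ (n / 2) + 1 := by
    obtain ⟨r, hr⟩ : ∃ r, p ^ (n / 2) = r + 1 := ⟨p ^ (n / 2) - 1, by omega⟩
    rw [hr, Nat.add_sub_cancel]; ring
  omega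

end CfsgLib.OneSeen
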