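import Mathlib
import Cfsg.Agent.Lib.OneSeen.Field

/-!
A finite `p`-group `S` in which each element outside `S'` is conjugate to its whole `S'`-coset and which
has an endomorphism acting on `S / S'` as a generator of the multiplicative group of a field, has class
at most two.
-/

set_option autoImplicit false
set_option linter.unusedSectionVars false

namespace CfsgLib.OneSeen

open Subgroup
open scoped commutatorElement

universe u v

variable {F : Type u} [Field F] [Finite F]

/-- The data: a projection with kernel the derived subgroup and a compatible endomorphism. -/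
structure Datum (F : Type u) [Field F] (ω : Fˣ) (Q : Type v) [Group Q] where
  /-- the projection -/
  π : Q →* Multiplicative F
  /-- the endomorphism -/
  σ : Q →* Q
  surj : Function.Surjective π
  ker : π.ker = commutator Q
  compat : ∀ s, (π (σ s)).toAdd = (ω : F) * (π s).toAdd
  cls : ∀ x, x ∉ commutator Q → ∀ c ∈ commutator Q, ∃ s, s * x * s⁻¹ = x * c

variable {ω : Fˣ} {Q : Type v} [Group Q]

theorem Datum.mem_iff (D : Datum F ω Q) {x : Q} : x ∈ commutator Q ↔ (D.π x).toAdd = 0 := by
  rw [← D.ker, MonoidHom.mem_ker]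
  exact ⟨fun h => by rw [h]; rfl, fun h => Multiplicative.toAdd.injective h⟩

theorem Datum.iterate_compat (D : Datum F ω Q) (k : ℕ) (s : Q) :
    (D.π (D.σ^[k] s)).toAdd = (ω : F) ^ k * (D.π s).toAdd := by
  induction k generalizing s with
  | zero => simp
  | succ k ih => rw [Function.iterate_succ_apply, ih, D.compat, pow_succ, mul_assoc]

theorem iterate_comm (f : Q →* Q) (k : ℕ) (a b : Q) : f^[k] ⁅a, b⁆ = ⁅f^[k] a, f^[k] b⁆ := by
  induction k generalizing a b with
  | zero => rfl
  | succ k ih => rw [Function.iterate_succ_apply, Function.iterate_succ_apply, Function.iterate_succ_apply,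
      map_commutatorElement, ih]

/-- A central subgroup inside `Q'` has fewer elements than the field. -/
theorem Datum.card_lt [Finite Q] (D : Datum F ω Q) {A : Subgroup Q} (hA : A ≤ commutator Q)
    (hAc : A ≤ center Q) : Nat.card A < Nat.card F := by
  classical
  obtain ⟨x, hx⟩ := D.surj (Multiplicative.ofAdd (1 : F))
  have hxK : x ∉ commutator Q := fun h => by
    have h1 := D.mem_iff.mp h
    rw [hx] at h1
    exact one_ne_zero h1
  set C := centralizer ({x} : Set Q) with hC
  choose s hs using D.cls x hxK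
  have hinj : Nat.card (commutator Q) ≤ C.index := by
    refine Nat.card_le_card_of_injective (fun c => (QuotientGroup.mk (s c.1 c.2) : Q ⧸ C)) ?_
    intro a b h
    have h1 := QuotientGroup.eq.mp h
    rw [hC, mem_centralizer_singleton_iff] at h1
    refine Subtype.ext (mul_left_cancel (a := x) ?_)
    rw [← hs a.1 a.2, ← hs b.1 b.2]
    calc s a.1 a.2 * x * (s a.1 a.2)⁻¹
        = s a.1 a.2 * (x * ((s a.1 a.2)⁻¹ * s b.1 b.2)) * (s b.1 b.2)⁻¹ := by group
      _ = s b.1 b.2 * x * (s b.1 b.2)⁻¹ := by rw [← h1]; group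
  have hidx : (commutator Q).index = Nat.card F := by
    rw [← D.ker, Subgroup.index_ker, MonoidHom.range_eq_top.mpr D.surj, Subgroup.card_top]
    exact Nat.card_congr Multiplicative.toAdd
  have h2 : Nat.card C ≤ Nat.card F := by
    have h3 := C.card_mul_index
    rw [← (commutator Q).card_mul_index, hidx] at h3
    refine Nat.le_of_mul_le_mul_right ?_ (Nat.card_pos (α := commutator Q))
    calc Nat.card C * Nat.card (commutator Q) ≤ Nat.card C * C.index := Nat.mul_le_mul_left _ hinj
      _ = _ := by rw [h3, mul_comm]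
  have hAC : A ≤ C := fun a ha => mem_centralizer_singleton_iff.mpr
    ((Subgroup.mem_center_iff.mp (hAc ha) x).symm)
  have hxC : x ∈ C := mem_centralizer_singleton_iff.mpr rfl
  refine lt_of_lt_of_le (lt_of_le_of_ne (Subgroup.card_le_of_le hAC) fun h => hxK (hA ?_)) h2
  exact (Subgroup.eq_of_le_of_card_ge hAC h.ge).symm ▸ hxC

theorem comm_mul_left {z : Q} {a b c : Q} (hz : ⁅b, c⁆ = z) (hzc : z ∈ center Q) :
    ⁅a * b, c⁆ = z * ⁅a, c⁆ := by
  have h : ⁅a * b, c⁆ = a * ⁅b, c⁆ * a⁻¹ * ⁅a, c⁆ := by simp only [commutatorElement_def]; group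
  rw [h, hz, Subgroup.mem_center_iff.mp hzc a, mul_inv_cancel_right]

theorem comm_mul_right {a b c : Q} (hzc : ⁅c, b⁆ ∈ center Q) : ⁅c, a * b⁆ = ⁅c, a⁆ * ⁅c, b⁆ := by
  have h : ⁅c, a * b⁆ = ⁅c, a⁆ * (a * ⁅c, b⁆ * a⁻¹) := by simp only [commutatorElement_def]; group
  rw [h, Subgroup.mem_center_iff.mp hzc a, mul_inv_cancel_right]

variable {p n : ℕ} [Fact p.Prime] [CharP F p] (hq : Nat.card F = p ^ n) (hω : ∀ x : Fˣ, ∃ k : ℕ, ω ^ k = x)

include hq hω

theorem Datum.fix_of_central [Finite Q] (D : Datum F ω Q) (hc : commutator Q ≤ center Q) {m : ℕ}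
    (hm : m = if Even n then p ^ (n / 2) - 1 else 1) : ∀ z ∈ commutator Q, D.σ^[m] z = z := by
  classical
  have hcomm : ∀ a b : Q, ⁅a, b⁆ ∈ commutator Q := fun a b =>
    commutator_mem_commutator (mem_top a) (mem_top b)
  have hL : ∀ a b c : Q, ⁅a * b, c⁆ = ⁅a, c⁆ * ⁅b, c⁆ := fun a b c => by
    rw [comm_mul_left rfl (hc (hcomm _ _)), (Subgroup.mem_center_iff.mp (hc (hcomm b c)) _)]
  have hR : ∀ a b c : Q, ⁅c, a * b⁆ = ⁅c, a⁆ * ⁅c, b⁆ := fun a b c => comm_mul_right (hc (hcomm _ _))
  have hcen : ∀ (z : Q), z ∈ center Q → ∀ b : Q, ⁅z, b⁆ = 1 ∧ ⁅b, z⁆ = 1 := fun z hz b =>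
    ⟨commutatorElement_eq_one_iff_mul_comm.mpr (Subgroup.mem_center_iff.mp hz b).symm,
     commutatorElement_eq_one_iff_mul_comm.mpr (Subgroup.mem_center_iff.mp hz b)⟩
  have hcong : ∀ a a' b b', (D.π a).toAdd = (D.π a').toAdd → (D.π b).toAdd = (D.π b').toAdd →
      ⁅a, b⁆ = ⁅a', b'⁆ := by
    intro a a' b b' ha hb
    have key : ∀ x x', (D.π x).toAdd = (D.π x').toAdd → ∃ z ∈ center Q, x = x' * z := fun x x' hx =>
      ⟨x'⁻¹ * x, hc (D.mem_iff.mpr (by rw [map_mul, map_inv, toAdd_mul, toAdd_inv, hx, neg_add_cancel])),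
        by group⟩
    obtain ⟨z, hz, rfl⟩ := key a a' ha
    obtain ⟨w, hw, rfl⟩ := key b b' hb
    rw [hL, hR, hR, (hcen z hz b').1, (hcen w hw a').2, (hcen z hz w).1]
    simp
  -- any endomorphism trivial modulo `Q'` fixes `Q'`
  have hfixgen : ∀ k : ℕ, (∀ s, (D.π (D.σ^[k] s)).toAdd = (D.π s).toAdd) →
      ∀ z ∈ commutator Q, D.σ^[k] z = z := by
    intro k hk z hz
    rw [commutator_eq_closure] at hz
    induction hz using Subgroup.closure_induction with
    | mem z hz =>
      obtain ⟨a, b, rfl⟩ := hz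
      rw [iterate_comm]
      exact hcong _ _ _ _ (hk a) (hk b)
    | one => exact iterate_map_one D.σ k
    | mul x y _ _ hx hy => rw [iterate_map_mul, hx, hy]
    | inv x _ hx => rw [iterate_map_inv, hx]
  have hstab : ∀ z ∈ commutator Q, D.σ z ∈ commutator Q := fun z hz =>
    D.mem_iff.mpr (by rw [D.compat, D.mem_iff.mp hz, mul_zero])
  letI : CommGroup (commutator Q) :=
    { (inferInstance : Group (commutator Q)) with
      mul_comm := fun a b => Subtype.ext (Subgroup.mem_center_iff.mp (hc b.2) a) }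
  let τ : commutator Q →* commutator Q :=
    MonoidHom.mk' (fun z => ⟨D.σ z, hstab z z.2⟩) fun a b => Subtype.ext (map_mul D.σ a.1 b.1)
  let T : Additive (commutator Q) →+ Additive (commutator Q) := MonoidHom.toAdditive τ
  have hTk : ∀ (k : ℕ) (z : Additive (commutator Q)),
      ((T^[k] z).toMul : Q) = D.σ^[k] (z.toMul : Q) := fun k => by
    induction k with
    | zero => intro z; rfl
    | succ k ih => intro z; rw [Function.iterate_succ_apply, Function.iterate_succ_apply, ih]; rfl
  have hTN : ∀ z, T^[p ^ n - 1] z = z := fun z => by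
    refine Additive.toMul.injective (Subtype.ext ?_)
    rw [hTk]
    refine hfixgen _ (fun s => ?_) _ z.toMul.2
    rw [D.iterate_compat, ← orderOf_omega hq ω hω, ← Units.val_pow_eq_pow_val, pow_orderOf_eq_one,
      Units.val_one, one_mul]
  have hexp : ∀ z : Additive (commutator Q), p • z = 0 := by
    intro z
    refine Additive.toMul.injective (Subtype.ext ?_)
    show ((z.toMul : commutator Q) ^ p : commutator Q).1 = 1
    rw [SubmonoidClass.coe_pow]
    have key : ∀ y ∈ commutator Q, y ^ p = (1 : Q) := by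
      intro y hy
      rw [commutator_eq_closure] at hy
      induction hy using Subgroup.closure_induction with
      | mem y hy =>
        obtain ⟨a, b, rfl⟩ := hy
        have h1 : ∀ i : ℕ, ⁅a, b⁆ ^ i = ⁅a ^ i, b⁆ := fun i => by
          induction i with
          | zero => simp
          | succ i ih => rw [pow_succ, ih, pow_succ, hL]
        rw [h1]
        refine (hcen _ (hc (D.mem_iff.mpr ?_)) b).1
        rw [map_pow, toAdd_pow, nsmul_eq_mul, CharP.cast_eq_zero, zero_mul]
      | one => exact one_pow _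
      | mul x y hx hy h1 h2 =>
        rw [Commute.mul_pow, h1, h2, one_mul]
        refine (Subgroup.mem_center_iff.mp (hc ?_) x)
        rw [commutator_eq_closure]; exact hy
      | inv x _ h1 => rw [inv_pow, h1, inv_one]
    exact key _ z.toMul.2
  have : Module (ZMod p) (Additive (commutator Q)) := AddCommGroup.zmodModule hexp
  have hsm : Nat.card (Additive (commutator Q)) < Nat.card F := D.card_lt le_rfl hc
  intro z hz
  let z0 : Additive (commutator Q) := Additive.ofMul ⟨z, hz⟩
  suffices T^[m] z0 - z0 = 0 by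
    have h1 := congrArg (fun w : Additive (commutator Q) => (w.toMul : Q)) (sub_eq_zero.mp this)
    simp only [hTk] at h1
    exact h1
  by_contra hne
  obtain ⟨φ, hφ⟩ := not_forall.mp fun h => hne ((Module.forall_dual_apply_eq_zero_iff (ZMod p) (T^[m] z0 - z0)).mp h)
  let lam : Additive (commutator Q) →+ F := (ZMod.castHom dvd_rfl F).toAddMonoidHom.comp φ.toAddMonoidHom
  obtain ⟨e, he, -, he'⟩ := eigen_sum hq T hTN lam
  refine hφ ((ZMod.castHom dvd_rfl F).injective ?_)
  rw [map_zero]
  refine he' _ fun η => ?_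
  rw [map_sub, sub_eq_zero]
  have hiter : ∀ (k : ℕ) w, e η (T^[k] w) = (η : F) ^ k * e η w := fun k => by
    induction k with
    | zero => intro w; simp
    | succ k ih => intro w; rw [Function.iterate_succ_apply, ih, he, smul_eq_mul, pow_succ, mul_assoc]
  rw [hiter]
  rcases eq_or_ne (e η) 0 with h0 | h0
  · rw [h0]; simp
  suffices (η : F) ^ m = 1 by rw [this, one_mul]
  obtain ⟨d, hd, hdn, hdlt, hfix⟩ := exists_pow_eq hq (e η).range
    (fun h => h0 (AddMonoidHom.range_eq_bot_iff.mp h))
    (lt_of_le_of_lt (Nat.card_le_card_of_surjective _ (e η).rangeRestrict_surjective) hsm) (η : F)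
    (fun x hx => by
      obtain ⟨w, rfl⟩ := hx
      exact ⟨T w, he η w⟩)
  -- the bilinear map
  choose sec hsec using fun u : F => D.surj (Multiplicative.ofAdd u)
  have hsec' : ∀ u, (D.π (sec u)).toAdd = u := fun u => by rw [hsec]; rfl
  let B : Q → Q → Additive (commutator Q) := fun a b => Additive.ofMul ⟨⁅a, b⁆, hcomm a b⟩
  have hBL : ∀ a b c, B (a * b) c = B a c + B b c := fun a b c =>
    Additive.toMul.injective (Subtype.ext (hL a b c))
  have hBR : ∀ a b c, B c (a * b) = B c a + B c b := fun a b c =>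
    Additive.toMul.injective (Subtype.ext (hR a b c))
  have hB : ∀ a b, B a b = B (sec (D.π a).toAdd) (sec (D.π b).toAdd) := fun a b =>
    Additive.toMul.injective (Subtype.ext (hcong _ _ _ _ (hsec' _).symm (hsec' _).symm))
  have hsadd : ∀ u u' : F, (D.π (sec (u + u'))).toAdd = (D.π (sec u * sec u')).toAdd := fun u u' => by
    rw [map_mul, toAdd_mul, hsec', hsec', hsec']
  let f : F →+ F →+ F := AddMonoidHom.mk' (fun u => AddMonoidHom.mk' (fun w => e η (B (sec u) (sec w)))
      fun w w' => by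
        rw [← map_add, ← hBR]
        exact congrArg _ (Additive.toMul.injective (Subtype.ext (hcong _ _ _ _ rfl (hsadd w w')))))
    fun u u' => AddMonoidHom.ext fun w => by
      show e η _ = e η _ + e η _
      rw [← map_add, ← hBL]
      exact congrArg _ (Additive.toMul.injective (Subtype.ext (hcong _ _ _ _ (hsadd u u') rfl)))
  have hf : ∀ a b, f (D.π a).toAdd (D.π b).toAdd = e η (B a b) := fun a b => by rw [hB a b]; rfl
  have hf0 : f ≠ 0 := by
    intro h
    refine h0 (AddMonoidHom.ext fun w => ?_)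
    have key : ∀ y ∈ Subgroup.closure (commutatorSet Q), ∀ hy : y ∈ commutator Q,
        e η (Additive.ofMul ⟨y, hy⟩) = 0 := by
      intro y hy
      induction hy using Subgroup.closure_induction with
      | mem y hy =>
        intro hy1
        obtain ⟨a, b, rfl⟩ := hy
        show e η (B a b) = 0
        rw [← hf, h]; rfl
      | one => intro hy1; exact map_zero (e η)
      | mul x y hx hy h1 h2 =>
        intro _
        have hx' : x ∈ commutator Q := by rw [commutator_eq_closure]; exact hx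
        have hy2 : y ∈ commutator Q := by rw [commutator_eq_closure]; exact hy
        show e η (Additive.ofMul (⟨x, hx'⟩ : commutator Q) + Additive.ofMul ⟨y, hy2⟩) = 0
        rw [map_add, h1 hx', h2 hy2, add_zero]
      | inv x hx h1 =>
        intro _
        have hx' : x ∈ commutator Q := by rw [commutator_eq_closure]; exact hx
        show e η (-Additive.ofMul (⟨x, hx'⟩ : commutator Q)) = 0
        rw [map_neg, h1 hx', neg_zero]
    refine key _ ?_ w.toMul.2
    rw [← commutator_eq_closure]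
    exact w.toMul.2
  obtain ⟨i, j, hij⟩ := eigen_biadd hq ω hω f hf0 η fun u w => by
    obtain ⟨a, rfl⟩ : ∃ a, (D.π a).toAdd = u := ⟨_, hsec' u⟩
    obtain ⟨b, rfl⟩ : ∃ b, (D.π b).toAdd = w := ⟨_, hsec' w⟩
    rw [← D.compat, ← D.compat, hf, hf, ← smul_eq_mul, ← he]
    exact congrArg _ (Additive.toMul.injective (Subtype.ext (map_commutatorElement D.σ a b).symm))
  rw [hij] at hfix
  obtain ⟨hev, hone⟩ := pow_half hq ω hω hd hdn hdlt hfix
  rw [hm, if_pos hev, hij, hone]

omit hq hω in
/-- Passing to the quotient by a stable normal subgroup inside the derived subgroup. -/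
theorem Datum.quot (D : Datum F ω Q) (R : Subgroup Q) [R.Normal] (hR : R ≤ commutator Q)
    (hσR : R.map D.σ ≤ R) :
    ∃ D' : Datum F ω (Q ⧸ R), ∀ s : Q, D'.π s = D.π s ∧ D'.σ s = (D.σ s : Q ⧸ R) := by
  have hK : commutator (Q ⧸ R) = (commutator Q).map (QuotientGroup.mk' R) := by
    rw [commutator_def, commutator_def, map_commutator,
      map_top_of_surjective _ (QuotientGroup.mk'_surjective R)]
  have hRk : R ≤ D.π.ker := D.ker.symm ▸ hR
  refine ⟨⟨QuotientGroup.lift R D.π hRk, QuotientGroup.map R R D.σ (Subgroup.map_le_iff_le_comap.mp hσR),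
    ?_, ?_, ?_, ?_⟩, fun s => ⟨rfl, rfl⟩⟩
  · intro u
    obtain ⟨s, hs⟩ := D.surj u
    exact ⟨s, hs⟩
  · ext x
    obtain ⟨s, rfl⟩ := QuotientGroup.mk'_surjective R x
    rw [hK, MonoidHom.mem_ker]
    constructor
    · intro h
      exact mem_map_of_mem _ (D.ker ▸ MonoidHom.mem_ker.mpr h)
    · rintro ⟨t, ht, hts⟩
      rw [← hts]
      show D.π t = 1
      exact MonoidHom.mem_ker.mp (D.ker.symm ▸ ht)
  · intro x
    obtain ⟨s, rfl⟩ := QuotientGroup.mk'_surjective R x
    exact D.compat s
  · intro x hx c hc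
    obtain ⟨s, rfl⟩ := QuotientGroup.mk'_surjective R x
    rw [hK] at hc hx
    obtain ⟨t, ht, rfl⟩ := hc
    obtain ⟨r, hr⟩ := D.cls s (fun h => hx (mem_map_of_mem _ h)) t ht
    exact ⟨(r : Q ⧸ R), congrArg (QuotientGroup.mk' R) hr⟩

theorem Datum.commutator_le_center [Finite Q] (D : Datum F ω Q) (hp : IsPGroup p Q) :
    commutator Q ≤ center Q := by
  classical
  set K := commutator Q with hKdef
  set K3 := ⁅K, (⊤ : Subgroup Q)⁆ with hK3
  set K4 := ⁅K3, (⊤ : Subgroup Q)⁆ with hK4
  have : K3.Normal := inferInstance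
  have : K4.Normal := inferInstance
  have h3 : K3 ≤ K := commutator_le_left _ _
  have h4 : K4 ≤ K3 := commutator_le_left _ _
  have hKs : K.map D.σ ≤ K := by
    rw [hKdef, commutator_def, map_commutator]
    exact commutator_mono le_top le_top
  have h3s : K3.map D.σ ≤ K3 := by rw [hK3, map_commutator]; exact commutator_mono hKs le_top
  have h4s : K4.map D.σ ≤ K4 := by rw [hK4, map_commutator]; exact commutator_mono h3s le_top
  set m := if Even n then p ^ (n / 2) - 1 else 1 with hm
  have hmap : ∀ (R : Subgroup Q) [R.Normal] (X : Subgroup Q),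
      (⁅X, (⊤ : Subgroup Q)⁆).map (QuotientGroup.mk' R) = ⊥ → X.map (QuotientGroup.mk' R) ≤ center (Q ⧸ R) := by
    intro R _ X h
    rw [map_commutator, map_top_of_surjective _ (QuotientGroup.mk'_surjective R),
      commutator_eq_bot_iff_le_centralizer] at h
    intro y hy
    exact Subgroup.mem_center_iff.mpr fun g => mem_centralizer_iff.mp (h hy) g (mem_top g)
  have hbot : ∀ (R : Subgroup Q) [R.Normal] (X : Subgroup Q), X ≤ R → X.map (QuotientGroup.mk' R) = ⊥ :=
    fun R _ X h => (Subgroup.map_eq_bot_iff _).mpr (by rwa [QuotientGroup.ker_mk'])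
  have hKR : ∀ (R : Subgroup Q) [R.Normal], commutator (Q ⧸ R) = K.map (QuotientGroup.mk' R) := fun R _ => by
    rw [hKdef, commutator_def, commutator_def, map_commutator,
      map_top_of_surjective _ (QuotientGroup.mk'_surjective R)]
  -- `σ ^ m` is trivial on `K / K3`
  obtain ⟨D3, hD3⟩ := D.quot K3 h3 h3s
  have hc3 : commutator (Q ⧸ K3) ≤ center (Q ⧸ K3) := by
    rw [hKR]; exact hmap K3 K (hbot K3 _ le_rfl)
  have hit3 : ∀ (k : ℕ) (s : Q), D3.σ^[k] (s : Q ⧸ K3) = ((D.σ^[k] s : Q) : Q ⧸ K3) := fun k => by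
    induction k with
    | zero => intro s; rfl
    | succ k ih => intro s; rw [Function.iterate_succ_apply, (hD3 s).2, ih, Function.iterate_succ_apply]
  have hfix : ∀ z ∈ K, z⁻¹ * D.σ^[m] z ∈ K3 := fun z hz => by
    rw [← QuotientGroup.eq, ← hit3]
    exact (D3.fix_of_central hq hω hc3 hm (z : Q ⧸ K3) (hKR K3 ▸ mem_map_of_mem _ hz)).symm
  -- the third layer vanishes
  obtain ⟨D4, hD4⟩ := D.quot K4 (h4.trans h3) h4s
  have hit4 : ∀ (k : ℕ) (s : Q), D4.σ^[k] (s : Q ⧸ K4) = ((D.σ^[k] s : Q) : Q ⧸ K4) := fun k => by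
    induction k with
    | zero => intro s; rfl
    | succ k ih => intro s; rw [Function.iterate_succ_apply, (hD4 s).2, ih, Function.iterate_succ_apply]
  set K' := commutator (Q ⧸ K4) with hK'
  set C3 := K3.map (QuotientGroup.mk' K4) with hC3
  have hC3c : C3 ≤ center (Q ⧸ K4) := hmap K4 K3 (hbot K4 _ le_rfl)
  have hC3K : C3 ≤ K' := by rw [hK', hKR]; exact map_mono h3
  have hsmall : Nat.card C3 < Nat.card F := D4.card_lt hC3K hC3c
  have hK'top : ⁅K', (⊤ : Subgroup (Q ⧸ K4))⁆ = C3 := by
    rw [hK', hKR, hC3, hK3, map_commutator, map_top_of_surjective _ (QuotientGroup.mk'_surjective K4)]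
  have hKK : ⁅K', K'⁆ = ⊥ := by
    have h0 : ⁅C3, (⊤ : Subgroup (Q ⧸ K4))⁆ = ⊥ := by
      rw [commutator_eq_bot_iff_le_centralizer]
      exact hC3c.trans (center_le_centralizer _)
    have := commutator_commutator_eq_bot_of_rotate (H₁ := (⊤ : Subgroup (Q ⧸ K4))) (H₂ := ⊤) (H₃ := K')
      (by rw [commutator_comm ⊤ K', hK'top]; exact h0) (by rw [hK'top]; exact h0)
    rw [← commutator_def, ← hK'] at this
    exact this
  have hzin : ∀ z ∈ K', ∀ u : Q ⧸ K4, ⁅z, u⁆ ∈ C3 := fun z hz u =>
    hK'top ▸ commutator_mem_commutator hz (mem_top u)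
  have hcentral : K' ≤ center (Q ⧸ K4) := by
    intro z hz
    rw [Subgroup.mem_center_iff]
    intro g
    suffices ⁅z, g⁆ = 1 from (commutatorElement_eq_one_iff_mul_comm.mp this).symm
    let χ : Q ⧸ K4 →* Q ⧸ K4 := MonoidHom.mk' (fun u => ⁅z, u⁆) fun a b =>
      comm_mul_right (hC3c (hzin z hz b))
    have hχK : ∀ k ∈ K', χ k = 1 := fun k hk => by
      have h := commutator_mem_commutator hz hk
      rw [hKK, mem_bot] at h
      exact h
    let W : AddSubgroup F :=
      { carrier := {u | ∃ a, χ a = 1 ∧ (D4.π a).toAdd = u}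
        add_mem' := by
          rintro _ _ ⟨a, ha, rfl⟩ ⟨b, hb, rfl⟩
          exact ⟨a * b, by rw [map_mul, ha, hb, one_mul], by rw [map_mul, toAdd_mul]⟩
        zero_mem' := ⟨1, map_one χ, by rw [map_one]; rfl⟩
        neg_mem' := by
          rintro _ ⟨a, ha, rfl⟩
          exact ⟨a⁻¹, by rw [map_inv, ha, inv_one], by rw [map_inv, toAdd_inv]⟩ }
    have hstabW : ∀ x ∈ W, (ω : F) ^ m * x ∈ W := by
      rintro _ ⟨a, ha, rfl⟩
      refine ⟨D4.σ^[m] a, ?_, D4.iterate_compat m a⟩
      obtain ⟨z0, hz0, hz0e⟩ : ∃ z0 ∈ K, (QuotientGroup.mk' K4) z0 = z := by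
        have := hz; rw [hK', hKR] at this; exact this
      obtain ⟨c, hc, hzc⟩ : ∃ c ∈ center (Q ⧸ K4), D4.σ^[m] z = z * c := by
        refine ⟨(((z0⁻¹ * D.σ^[m] z0 : Q)) : Q ⧸ K4), hC3c (mem_map_of_mem _ (hfix z0 hz0)), ?_⟩
        rw [← hz0e]
        show D4.σ^[m] (z0 : Q ⧸ K4) = (z0 : Q ⧸ K4) * _
        rw [hit4, ← QuotientGroup.mk_mul, mul_inv_cancel_left]
      have h1 : ⁅D4.σ^[m] z, D4.σ^[m] a⁆ = 1 := by
        rw [← iterate_comm]
        show D4.σ^[m] (χ a) = 1
        rw [ha, iterate_map_one]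
      rw [hzc, commutatorElement_eq_one_iff_mul_comm] at h1
      show ⁅z, _⁆ = 1
      rw [commutatorElement_eq_one_iff_mul_comm]
      set b := D4.σ^[m] a
      have hcb := Subgroup.mem_center_iff.mp hc b
      refine mul_right_cancel (b := c) ?_
      rw [mul_assoc, mul_assoc, hcb, ← mul_assoc, h1]
    have hcard : ∀ u : Q ⧸ K4, (D4.π u).toAdd ∈ W → χ u = 1 := by
      rintro u ⟨a, ha, hau⟩
      have : a⁻¹ * u ∈ K' := D4.mem_iff.mpr (by rw [map_mul, map_inv, toAdd_mul, toAdd_inv, hau, neg_add_cancel])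
      rw [← mul_inv_cancel_left a u, map_mul, ha, hχK _ this, mul_one]
    rcases irreducible_pow hq ω hω hm W hstabW with hW | hW
    · exfalso
      have hker : χ.ker ≤ K' := fun a ha => D4.mem_iff.mpr (by
        have : (D4.π a).toAdd ∈ W := ⟨a, MonoidHom.mem_ker.mp ha, rfl⟩
        rw [hW] at this
        exact this)
      have hr : Nat.card χ.range ≤ Nat.card C3 := by
        refine Subgroup.card_le_of_le ?_
        rintro _ ⟨u, rfl⟩
        exact hzin z hz u
      have hidx : K'.index = Nat.card F := by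
        rw [hK', ← D4.ker, Subgroup.index_ker, MonoidHom.range_eq_top.mpr D4.surj, Subgroup.card_top]
        exact Nat.card_congr Multiplicative.toAdd
      have := Nat.le_of_dvd Nat.card_pos ((Subgroup.index_ker χ) ▸ Subgroup.index_dvd_of_le hker)
      omega
    · have : W = ⊤ := AddSubgroup.eq_top_of_card_eq W hW
      exact hcard g (this ▸ AddSubgroup.mem_top _)
  -- conclude by nilpotency
  have h34 : K3 ≤ K4 := by
    have h : ⁅K', (⊤ : Subgroup (Q ⧸ K4))⁆ = ⊥ := by
      rw [commutator_eq_bot_iff_le_centralizer]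
      exact hcentral.trans (center_le_centralizer _)
    rw [hK'top, hC3, Subgroup.map_eq_bot_iff, QuotientGroup.ker_mk'] at h
    exact h
  have := hp.isNilpotent
  obtain ⟨c, hcc⟩ := _root_.nilpotent_iff_lowerCentralSeries.mp this
  have hlow : ∀ k, K3 ≤ Subgroup.lowerCentralSeries (⊤ : Subgroup Q) k := fun k => by
    induction k with
    | zero => rw [Subgroup.lowerCentralSeries_zero]; exact le_top
    | succ k ih => exact h34.trans (commutator_mono ih le_top)
  have h30 : ⁅K, (⊤ : Subgroup Q)⁆ = ⊥ := eq_bot_iff.mpr (hcc ▸ hlow c)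
  intro y hy
  exact Subgroup.mem_center_iff.mpr fun g =>
    mem_centralizer_iff.mp (commutator_eq_bot_iff_le_centralizer.mp h30 hy) g (mem_top g)

end CfsgLib.OneSeen
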