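import Mathlib
import Cfsg.Agent.Lib.Elementary
import Cfsg.Agent.Lib.OneSeen.ClassTwo

/-!
Groups `H` in which the nontrivial elements of `H'` form one class and every element outside `H'` is
conjugate to its whole coset.
-/

set_option autoImplicit false
set_option linter.unusedSectionVars false

namespace CfsgLib.OneSeen

open Subgroup
open scoped commutatorElement

universe u

/-- The hypothesis on `H`. -/
structure Layer (H : Type u) [Group H] : Prop where
  ne_bot : commutator H ≠ ⊥
  trans : ∀ x ∈ commutator H, x ≠ 1 → ∀ y ∈ commutator H, y ≠ 1 → IsConj x y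
  coset : ∀ x, x ∉ commutator H → ∀ n ∈ commutator H, IsConj x (x * n)

variable {H : Type u} [Group H] [Finite H]

theorem card_class_mul (x : H) :
    Nat.card {y : H // IsConj x y} * Nat.card (centralizer ({x} : Set H)) = Nat.card H := by
  have h1 : Nat.card {y : H // IsConj x y} = (MulAction.stabilizer (ConjAct H) x).index := by
    rw [MulAction.index_stabilizer, ConjAct.orbit_eq_carrier_conjClasses, ← Nat.card_coe_set_eq]
    refine Nat.card_congr (Equiv.subtypeEquivRight fun y => ?_)
    rw [ConjClasses.mem_carrier_iff_mk_eq, ConjClasses.mk_eq_mk_iff_isConj, isConj_comm]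
  rw [h1, Subgroup.centralizer_eq_comap_stabilizer, mul_comm,
    ← Subgroup.index_comap_of_surjective (MulAction.stabilizer (ConjAct H) x)
      (f := ConjAct.toConjAct.toMonoidHom) ConjAct.toConjAct.surjective]
  exact Subgroup.card_mul_index _

theorem orderOf_eq_of_isConj {x y : H} (h : IsConj x y) : orderOf x = orderOf y := by
  obtain ⟨c, hc⟩ := isConj_iff.mp h
  rw [← hc]
  exact (orderOf_injective (MulAut.conj c).toMonoidHom (MulAut.conj c).injective x).symm

theorem isConj_coset {x y : H} (h : IsConj x y) : x⁻¹ * y ∈ commutator H := by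
  obtain ⟨c, hc⟩ := isConj_iff.mp h
  subst hc
  have : x⁻¹ * (c * x * c⁻¹) = ⁅x⁻¹, c⁆ := by rw [commutatorElement_def]; group
  rw [this]
  exact commutator_mem_commutator (mem_top _) (mem_top _)

theorem Layer.exists_prime (L : Layer H) :
    ∃ p : ℕ, p.Prime ∧ IsPGroup p (commutator H) ∧ (∀ x ∈ commutator H, x ^ p = 1) ∧
      ∀ x ∈ commutator H, ∀ y ∈ commutator H, x * y = y * x := by
  classical
  have hne : Nat.card (commutator H) ≠ 1 := fun h => L.ne_bot (Subgroup.card_eq_one.mp h)
  set p := (Nat.card (commutator H)).minFac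
  have hp : p.Prime := Nat.minFac_prime hne
  haveI := Fact.mk hp
  obtain ⟨z, hz⟩ := exists_prime_orderOf_dvd_card' p (Nat.minFac_dvd (Nat.card (commutator H)))
  rw [← Subgroup.orderOf_coe] at hz
  have hz1 : (z : H) ≠ 1 := fun h => hp.ne_one (by rw [← hz, h, orderOf_one])
  have hexp : ∀ x ∈ commutator H, x ^ p = 1 := fun x hx => by
    rcases eq_or_ne x 1 with rfl | hx1
    · exact one_pow _
    · rw [← hz, orderOf_eq_of_isConj (L.trans z z.2 hz1 x hx hx1), pow_orderOf_eq_one]
  have hpg : IsPGroup p (commutator H) := fun x => ⟨1, Subtype.ext (by simpa using hexp x x.2)⟩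
  refine ⟨p, hp, hpg, hexp, ?_⟩
  have hne' : Nontrivial (commutator H) := (Subgroup.nontrivial_iff_ne_bot _).mpr L.ne_bot
  obtain ⟨c, hc, hc1⟩ : ∃ c : commutator H, c ∈ center (commutator H) ∧ c ≠ 1 := by
    have := hpg.center_nontrivial
    obtain ⟨c, hc⟩ := exists_ne (1 : center (commutator H))
    exact ⟨c.1, c.2, fun h => hc (Subtype.ext h)⟩
  intro x hx y hy
  rcases eq_or_ne x 1 with rfl | hx1
  · rw [one_mul, mul_one]
  obtain ⟨d, hd⟩ := isConj_iff.mp (L.trans c c.2 (fun h => hc1 (Subtype.ext h)) x hx hx1)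
  have hy' : d⁻¹ * y * d ∈ commutator H := by
    simpa using (inferInstance : (commutator H).Normal).conj_mem y hy d⁻¹
  have h1 : d⁻¹ * y * d * c = c * (d⁻¹ * y * d) :=
    congrArg Subtype.val (Subgroup.mem_center_iff.mp hc ⟨_, hy'⟩)
  rw [← hd]
  calc d * c * d⁻¹ * y = d * (c * (d⁻¹ * y * d)) * d⁻¹ := by group
    _ = y * (d * c * d⁻¹) := by rw [← h1]; group

theorem Layer.card_centralizer (L : Layer H) {x : H} (hx : x ∉ commutator H) :
    Nat.card (centralizer ({x} : Set H)) = (commutator H).index := by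
  have h1 : Nat.card {y : H // IsConj x y} = Nat.card (commutator H) :=
    Nat.card_congr
      { toFun := fun y => ⟨x⁻¹ * y.1, isConj_coset y.2⟩
        invFun := fun n => ⟨x * n.1, L.coset x hx n n.2⟩
        left_inv := fun y => Subtype.ext (mul_inv_cancel_left x y.1)
        right_inv := fun n => Subtype.ext (inv_mul_cancel_left x n.1) }
  have h2 := card_class_mul x
  rw [h1, ← (commutator H).card_mul_index] at h2
  exact Nat.eq_of_mul_eq_mul_left Nat.card_pos h2

theorem Layer.card_centralizer_mem (L : Layer H) {z : H} (hz : z ∈ commutator H) (hz1 : z ≠ 1) :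
    (Nat.card (commutator H) - 1) * Nat.card (centralizer ({z} : Set H)) = Nat.card H := by
  classical
  have h1 : Nat.card {y : H // IsConj z y} = Nat.card (commutator H) - 1 := by
    rw [show Nat.card (commutator H) - 1 = Nat.card {y : commutator H // y ≠ 1} by
      have := Fintype.ofFinite (commutator H)
      rw [Nat.card_eq_fintype_card, Nat.card_eq_fintype_card, Fintype.card_subtype_compl,
        Fintype.card_subtype_eq]]
    refine Nat.card_congr
      { toFun := fun y => ⟨⟨y.1, ?_⟩, ?_⟩
        invFun := fun y => ⟨y.1.1, L.trans z hz hz1 y.1 y.1.2 fun h => y.2 (Subtype.ext h)⟩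
        left_inv := fun y => rfl
        right_inv := fun y => rfl }
    · obtain ⟨c, hc⟩ := isConj_iff.mp y.2
      rw [← hc]; exact (inferInstance : (commutator H).Normal).conj_mem z hz c
    · intro h
      have e : y.1 = 1 := congrArg Subtype.val h
      have h9 := y.2
      rw [e] at h9
      exact hz1 (isConj_one_right.mp h9.symm)
  rw [← h1]
  exact card_class_mul z

variable {p : ℕ} [Fact p.Prime] (L : Layer H) (hp : IsPGroup p (commutator H))

include L hp

/-- An element of order prime to `p` outside `H'` centralises no nontrivial element of `H'`. -/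
theorem Layer.fpf {y n : H} (hy : y ∉ commutator H) (hyp : ¬ p ∣ orderOf y) (hn : n ∈ commutator H)
    (hc : Commute y n) : n = 1 := by
  obtain ⟨k, hk⟩ := IsPGroup.iff_orderOf.mp hp ⟨n, hn⟩
  rw [Subgroup.orderOf_mk] at hk
  have hcop : (orderOf y).Coprime (orderOf n) := by
    rw [hk]; exact (((Fact.out : p.Prime).coprime_iff_not_dvd.mpr hyp).pow_left k).symm
  have h1 := orderOf_eq_of_isConj (L.coset y hy n hn)
  rw [hc.orderOf_mul_eq_mul_orderOf_of_coprime hcop] at h1
  exact orderOf_eq_one_iff.mp (Nat.eq_of_mul_eq_mul_left (orderOf_pos y)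
    (by rw [mul_one]; exact h1.symm))

theorem not_mem_commutator_of_not_dvd {y : H} (hy1 : y ≠ 1) (hyp : ¬ p ∣ orderOf y) :
    y ∉ commutator H := fun h => by
  obtain ⟨k, hk⟩ := IsPGroup.iff_orderOf.mp hp ⟨y, h⟩
  rw [Subgroup.orderOf_mk] at hk
  rcases k with _ | k
  · exact hy1 (orderOf_eq_one_iff.mp (by simpa using hk))
  · exact hyp (hk ▸ dvd_pow_self p k.succ_ne_zero)

/-- If `|H'| > 2`, all `p`-elements lie in `H'`. -/
theorem Layer.p_element_mem (hq2 : 2 < Nat.card (commutator H)) {x : H} (hxp : ∃ k, x ^ p ^ k = 1) :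
    x ∈ commutator H := by
  classical
  by_contra hx
  -- a nontrivial fixed point in `H'`
  have hP : IsPGroup p (zpowers x ⊔ commutator H : Subgroup H) := by
    refine IsPGroup.to_sup_of_normal_right ?_ hp
    rintro ⟨w, j, rfl⟩
    obtain ⟨k, hk⟩ := hxp
    exact ⟨k, Subtype.ext (by
      show (x ^ j) ^ p ^ k = 1
      rw [← zpow_natCast (x ^ j), ← zpow_mul, mul_comm, zpow_mul, zpow_natCast, hk, one_zpow])⟩
  have := hP.isNilpotent
  have hnb : (commutator H).subgroupOf (zpowers x ⊔ commutator H) ≠ ⊥ := by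
    intro h
    rw [Subgroup.subgroupOf_eq_bot, disjoint_iff, inf_eq_left.mpr le_sup_right] at h
    exact L.ne_bot h
  obtain ⟨n, hn, hn1⟩ := (Subgroup.bot_or_exists_ne_one _).resolve_left
    (CfsgLib.inf_center_ne_bot_of_nilpotent hnb)
  have hnH : (n : H) ∈ commutator H := Subgroup.mem_subgroupOf.mp hn.1
  have hnx : Commute x (n : H) :=
    congrArg Subtype.val (Subgroup.mem_center_iff.mp hn.2 ⟨x, mem_sup_left (mem_zpowers x)⟩)
  have hn1' : (n : H) ≠ 1 := fun h => hn1 (Subtype.ext h)
  -- the centraliser of `x` is a `p`-group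
  have hC : IsPGroup p (centralizer ({x} : Set H)) := by
    intro y
    set k := (orderOf (y : H)).factorization p with hk
    refine ⟨k, Subtype.ext ?_⟩
    show (y : H) ^ p ^ k = 1
    by_contra hy1
    set w := (y : H) ^ p ^ k with hw
    have hwp : ¬ p ∣ orderOf w := by
      rw [hw, orderOf_pow_of_dvd (pow_ne_zero _ (Fact.out : p.Prime).ne_zero) (Nat.ordProj_dvd _ _)]
      exact Nat.not_dvd_ordCompl (Fact.out : p.Prime) (orderOf_pos _).ne'
    have hwH := not_mem_commutator_of_not_dvd L hp hy1 hwp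
    have hxy : Commute x (y : H) := (Subgroup.mem_centralizer_singleton_iff.mp y.2).symm
    have hxw : Commute x w := hxy.pow_right _
    obtain ⟨j, hj⟩ := hxp
    have hcop : (p ^ j).Coprime (orderOf w) :=
      ((Fact.out : p.Prime).coprime_iff_not_dvd.mpr hwp).pow_left j
    -- the product `x * w` is outside `H'` and has both `x` and `w` as powers
    have hsplit : ∀ c : H, Commute c (x * w) → Commute c x ∧ Commute c w := by
      intro c hc
      obtain ⟨a, ha⟩ := Nat.chineseRemainder hcop 1 0
      obtain ⟨b, hb⟩ := Nat.chineseRemainder hcop 0 1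
      have e1 : (x * w) ^ a = x := by
        rw [hxw.mul_pow, pow_eq_pow_iff_modEq.mpr (Nat.ModEq.of_dvd (orderOf_dvd_of_pow_eq_one hj) ha.1),
          pow_eq_pow_iff_modEq.mpr ha.2, pow_one, pow_zero, mul_one]
      have e2 : (x * w) ^ b = w := by
        rw [hxw.mul_pow, pow_eq_pow_iff_modEq.mpr (Nat.ModEq.of_dvd (orderOf_dvd_of_pow_eq_one hj) hb.1),
          pow_eq_pow_iff_modEq.mpr hb.2, pow_one, pow_zero, one_mul]
      refine ⟨?_, ?_⟩
      · rw [← e1]; exact hc.pow_right a
      · rw [← e2]; exact hc.pow_right b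
    have hxwH : x * w ∉ commutator H := by
      intro h
      obtain ⟨a, ha⟩ := Nat.chineseRemainder hcop 1 0
      refine hx ?_
      have e1 : (x * w) ^ a = x := by
        rw [hxw.mul_pow, pow_eq_pow_iff_modEq.mpr (Nat.ModEq.of_dvd (orderOf_dvd_of_pow_eq_one hj) ha.1),
          pow_eq_pow_iff_modEq.mpr ha.2, pow_one, pow_zero, mul_one]
      exact e1 ▸ pow_mem h a
    have hle1 : centralizer ({x * w} : Set H) ≤ centralizer ({x} : Set H) := fun c hc =>
      mem_centralizer_singleton_iff.mpr (hsplit c (mem_centralizer_singleton_iff.mp hc)).1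
    have heq := Subgroup.eq_of_le_of_card_ge hle1
      (by rw [L.card_centralizer hx, L.card_centralizer hxwH])
    have hnc : (n : H) ∈ centralizer ({x * w} : Set H) :=
      heq ▸ mem_centralizer_singleton_iff.mpr hnx.symm
    exact hn1' (L.fpf hp hwH hwp hnH (hsplit _ (mem_centralizer_singleton_iff.mp hnc)).2.symm)
  obtain ⟨i, hi⟩ := IsPGroup.iff_card.mp hC
  rw [L.card_centralizer hx] at hi
  obtain ⟨j, hj⟩ := IsPGroup.iff_card.mp hp
  have h3 := L.card_centralizer_mem hnH hn1'
  rw [← (commutator H).card_mul_index, hi] at h3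
  have h4 : (Nat.card (commutator H) - 1) ∣ p ^ (j + i) := ⟨_, by rw [h3, hj, pow_add]⟩
  obtain ⟨l, -, hl⟩ := (Nat.dvd_prime_pow (Fact.out : p.Prime)).mp h4
  rcases l with _ | l
  · rw [pow_zero] at hl; omega
  · rcases j with _ | j
    · rw [pow_zero] at hj; omega
    · have hd1 : p ∣ Nat.card (commutator H) - 1 := hl ▸ dvd_pow_self p l.succ_ne_zero
      have hd2 : p ∣ Nat.card (commutator H) := hj ▸ dvd_pow_self p j.succ_ne_zero
      have := Nat.dvd_sub hd2 hd1
      rw [show Nat.card (commutator H) - (Nat.card (commutator H) - 1) = 1 by omega] at this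
      exact (Fact.out : p.Prime).one_lt.ne' (Nat.dvd_one.mp this)

/-- If `|H'| > 2` then `H'` is a self-centralising Sylow subgroup. -/
theorem Layer.frobenius (hq2 : 2 < Nat.card (commutator H))
    (hab : ∀ x ∈ commutator H, ∀ y ∈ commutator H, x * y = y * x) :
    ¬ p ∣ (commutator H).index ∧ (commutator H).index = Nat.card (commutator H) - 1 := by
  classical
  have hidx : ¬ p ∣ (commutator H).index := by
    obtain ⟨P, hP⟩ := hp.exists_le_sylow
    have : (P : Subgroup H) = commutator H :=
      le_antisymm (fun x hx => L.p_element_mem hp hq2 (by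
        obtain ⟨k, hk⟩ := P.isPGroup' ⟨x, hx⟩
        exact ⟨k, congrArg Subtype.val hk⟩)) hP
    rw [← this]
    exact P.not_dvd_index
  refine ⟨hidx, ?_⟩
  obtain ⟨z, hz, hz1⟩ := (Subgroup.bot_or_exists_ne_one _).resolve_left L.ne_bot
  have hCz : centralizer ({z} : Set H) = commutator H := by
    refine le_antisymm (fun x hx => ?_) fun x hx =>
      mem_centralizer_singleton_iff.mpr (hab x hx z hz)
    by_contra hxH
    have hzC : z ∈ centralizer ({x} : Set H) :=
      mem_centralizer_singleton_iff.mpr (mem_centralizer_singleton_iff.mp hx).symm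
    have h1 : orderOf z ∣ Nat.card (centralizer ({x} : Set H)) :=
      (Subgroup.orderOf_mk z hzC).symm ▸ orderOf_dvd_natCard _
    rw [L.card_centralizer hxH] at h1
    obtain ⟨k, hk⟩ := IsPGroup.iff_orderOf.mp hp ⟨z, hz⟩
    rw [Subgroup.orderOf_mk] at hk
    rcases k with _ | k
    · exact hz1 (orderOf_eq_one_iff.mp (by simpa using hk))
    · exact hidx ((hk ▸ dvd_pow_self p k.succ_ne_zero).trans h1)
  have h3 := L.card_centralizer_mem hz hz1
  rw [hCz, ← (commutator H).card_mul_index, mul_comm] at h3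
  exact (Nat.eq_of_mul_eq_mul_left Nat.card_pos h3).symm

/-- If `|H'| = 2` then `H` is a `2`-group. -/
theorem Layer.two_group (hq : Nat.card (commutator H) = 2) : IsPGroup p H := by
  classical
  obtain ⟨z, hz, hz1⟩ := (Subgroup.bot_or_exists_ne_one _).resolve_left L.ne_bot
  have hcent : ∀ y : H, Commute y z := by
    intro y
    have h3 := L.card_centralizer_mem hz hz1
    rw [hq, show 2 - 1 = 1 from rfl, one_mul] at h3
    exact mem_centralizer_singleton_iff.mp (Subgroup.eq_top_of_card_eq _ h3 ▸ mem_top y)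
  intro y
  refine ⟨(orderOf y).factorization p, ?_⟩
  by_contra hy1
  have hwp : ¬ p ∣ orderOf (y ^ p ^ (orderOf y).factorization p) := by
    rw [orderOf_pow_of_dvd (pow_ne_zero _ (Fact.out : p.Prime).ne_zero) (Nat.ordProj_dvd _ _)]
    exact Nat.not_dvd_ordCompl (Fact.out : p.Prime) (orderOf_pos _).ne'
  exact hz1 (L.fpf hp (not_mem_commutator_of_not_dvd L hp hy1 hwp) hwp hz (hcent _))

omit hp in
/-- If `|H'| = 2` and `H` has an abelian subgroup of index two containing `H'`, then `|H : H'| = 4`. -/
theorem Layer.index_four {k : ℕ} (hk : (commutator H).index = 2 ^ k) (hq : Nat.card (commutator H) = 2)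
    (A : Subgroup H) (hA : commutator H ≤ A) (hA2 : A.index ≤ 2)
    (hab : ∀ a ∈ A, ∀ b ∈ A, a * b = b * a) : (commutator H).index = 4 := by
  classical
  set a := (commutator H).index
  have hH : Nat.card H = 2 * a := by rw [← (commutator H).card_mul_index, hq]
  have hCA : ∀ x ∈ A, x ∉ commutator H → centralizer ({x} : Set H) = A := by
    intro x hxA hx
    refine (Subgroup.eq_of_le_of_card_ge (fun y hy => mem_centralizer_singleton_iff.mpr (hab y hy x hxA)) ?_).symm
    rw [L.card_centralizer hx]
    have h1 := A.card_mul_index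
    have : Nat.card A * A.index ≤ Nat.card A * 2 := Nat.mul_le_mul_left _ hA2
    omega
  obtain ⟨y, hy⟩ : ∃ y, y ∉ A := by
    by_contra h
    push Not at h
    refine L.ne_bot (eq_bot_iff.mpr ?_)
    rw [commutator_def, commutator_le]
    intro u _ v _
    rw [mem_bot, commutatorElement_eq_one_iff_mul_comm]
    exact hab u (h u) v (h v)
  have hyH : y ∉ commutator H := fun h => hy (hA h)
  set C := centralizer ({y} : Set H)
  have hC : Nat.card C = a := L.card_centralizer hyH
  have hCA' : C ⊓ A ≤ commutator H := fun w hw => by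
    by_contra hwH
    exact hy (hCA w hw.2 hwH ▸ mem_centralizer_singleton_iff.mpr (mem_centralizer_singleton_iff.mp hw.1).symm)
  obtain ⟨z, hz, hz1⟩ := (Subgroup.bot_or_exists_ne_one _).resolve_left L.ne_bot
  have hzc : z ∈ C := by
    have h3 := L.card_centralizer_mem hz hz1
    rw [hq, show 2 - 1 = 1 from rfl, one_mul] at h3
    exact mem_centralizer_singleton_iff.mpr
      (mem_centralizer_singleton_iff.mp (Subgroup.eq_top_of_card_eq _ h3 ▸ mem_top y)).symm
  have h3 : 2 < Nat.card C := by
    have h3a : Nat.card ({1, z, y} : Set H) ≤ Nat.card (C : Set H) :=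
      Nat.card_mono (Set.toFinite _) (by
        rintro w (rfl | rfl | rfl)
        · exact C.one_mem
        · exact hzc
        · exact mem_centralizer_singleton_iff.mpr rfl)
    rw [Nat.card_coe_set_eq, Set.ncard_eq_three.mpr ⟨1, z, y, fun h => hz1 h.symm,
      fun h => hyH (h ▸ Subgroup.one_mem _), fun h => hyH (h ▸ hz), rfl⟩] at h3a
    exact h3a
  have h4 : Nat.card C ≤ 4 := by
    have h1 : Nat.card (C ⊓ A : Subgroup H) ≤ 2 := hq ▸ Subgroup.card_le_of_le hCA'
    have h2 : A.relIndex C ≤ 2 :=
      le_trans (le_of_le_of_eq (Subgroup.relIndex_le_of_le_right le_top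
        (by rw [Subgroup.relIndex_top_right]; exact Subgroup.index_ne_zero_of_finite))
        (Subgroup.relIndex_top_right A)) hA2
    have h5 := Subgroup.card_mul_index (A.subgroupOf C)
    rw [Nat.card_congr (Equiv.refl _)] at h5
    have h6 : Nat.card (A.subgroupOf C) = Nat.card (C ⊓ A : Subgroup H) := by
      rw [← Subgroup.card_map_of_injective (C.subtype_injective), Subgroup.subgroupOf_map_subtype, inf_comm]
    have : Nat.card (A.subgroupOf C) * (A.subgroupOf C).index ≤ 2 * 2 := Nat.mul_le_mul (h6 ▸ h1) h2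
    omega
  rw [hC] at h3 h4
  rcases k with _ | _ | _ | k
  · omega
  · omega
  · simpa using hk
  · exfalso
    have : 2 ^ 3 ≤ 2 ^ (k + 1 + 1 + 1) := Nat.pow_le_pow_right (by omega) (by omega)
    omega

omit L hp in
/-- A transitive family of commuting automorphisms of an elementary abelian group gives a field. -/
theorem exists_field_model {N : Subgroup H} [N.Normal] (hN1 : N ≠ ⊥) (hexp : ∀ x ∈ N, x ^ p = 1)
    (hab : ∀ x ∈ N, ∀ y ∈ N, x * y = y * x)
    (htr : ∀ x ∈ N, x ≠ 1 → ∀ y ∈ N, y ≠ 1 → IsConj x y) (hder : commutator H ≤ N) :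
    ∃ (F : Type u) (_ : Field F) (_ : Finite F) (_ : CharP F p) (ω : Fˣ) (c : H) (e : N → F),
      Function.Bijective e ∧ (∀ a b, e (a * b) = e a + e b) ∧
      (∀ x : Fˣ, ∃ k : ℕ, ω ^ k = x) ∧
      ∀ a : N, e ⟨c * a * c⁻¹, (inferInstance : N.Normal).conj_mem a a.2 c⟩ = ω * e a := by
  classical
  letI : CommGroup N :=
    { (inferInstance : Group N) with mul_comm := fun a b => Subtype.ext (hab a a.2 b b.2) }
  let act : H → AddMonoid.End (Additive N) := fun c =>
    MonoidHom.toAdditive
      (MonoidHom.mk' (fun a : N => (⟨c * a * c⁻¹, (inferInstance : N.Normal).conj_mem a a.2 c⟩ : N))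
        fun a b => Subtype.ext (by simp))
  have hact : ∀ c (a : Additive N), ((act c a).toMul : H) = c * (a.toMul : H) * c⁻¹ := fun c a => rfl
  have hmul : ∀ c d, act (c * d) = act c * act d := fun c d =>
    AddMonoidHom.ext fun a => Additive.toMul.injective (Subtype.ext (by
      show c * d * (a.toMul : H) * (c * d)⁻¹ = c * (d * (a.toMul : H) * d⁻¹) * c⁻¹
      group))
  have hone : act 1 = 1 := AddMonoidHom.ext fun a => Additive.toMul.injective (Subtype.ext (by
    show 1 * (a.toMul : H) * 1⁻¹ = (a.toMul : H)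
    group))
  have hcomm : ∀ c d, act c * act d = act d * act c := by
    intro c d
    rw [← hmul, ← hmul]
    refine AddMonoidHom.ext fun a => Additive.toMul.injective (Subtype.ext ?_)
    show c * d * (a.toMul : H) * (c * d)⁻¹ = d * c * (a.toMul : H) * (d * c)⁻¹
    have hn : (d * c)⁻¹ * (c * d) ∈ N := hder (by
      have : (d * c)⁻¹ * (c * d) = ⁅c⁻¹, d⁻¹⁆ := by rw [commutatorElement_def]; group
      rw [this]; exact commutator_mem_commutator (mem_top _) (mem_top _))
    have h1 := hab _ hn _ a.toMul.2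
    calc c * d * (a.toMul : H) * (c * d)⁻¹
        = d * c * (((d * c)⁻¹ * (c * d)) * (a.toMul : H)) * (c * d)⁻¹ := by group
      _ = d * c * (a.toMul : H) * (d * c)⁻¹ := by rw [h1]; group
  set C := Subring.centralizer (Set.range act) with hCdef
  obtain ⟨z, hz, hz1⟩ := (Subgroup.bot_or_exists_ne_one _).resolve_left hN1
  set v0 : Additive N := Additive.ofMul ⟨z, hz⟩ with hv0
  have hv0ne : v0 ≠ 0 := fun h => hz1 (congrArg (fun w : Additive N => (w.toMul : H)) h)
  have htr' : ∀ v : Additive N, v ≠ 0 → ∃ c, act c v0 = v := fun v hv => by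
    obtain ⟨c, hc⟩ := isConj_iff.mp (htr z hz hz1 (v.toMul : H) v.toMul.2
      fun h => hv (Additive.toMul.injective (Subtype.ext h)))
    exact ⟨c, Additive.toMul.injective (Subtype.ext hc)⟩
  have hactC : ∀ c, act c ∈ C := fun c => Subring.mem_centralizer_iff.mpr (by
    rintro _ ⟨d, rfl⟩; exact hcomm d c)
  have hev : ∀ φ ψ : C, (φ : AddMonoid.End (Additive N)) v0 = (ψ : AddMonoid.End (Additive N)) v0 → φ = ψ := by
    intro φ ψ h
    refine Subtype.ext (AddMonoidHom.ext fun v => ?_)
    rcases eq_or_ne v 0 with rfl | hv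
    · exact (AddMonoidHom.map_zero _).trans (AddMonoidHom.map_zero _).symm
    · obtain ⟨c, rfl⟩ := htr' v hv
      have h1 := DFunLike.congr_fun (Subring.mem_centralizer_iff.mp φ.2 _ ⟨c, rfl⟩) v0
      have h2 := DFunLike.congr_fun (Subring.mem_centralizer_iff.mp ψ.2 _ ⟨c, rfl⟩) v0
      change act c ((φ : AddMonoid.End (Additive N)) v0) = _ at h1
      change act c ((ψ : AddMonoid.End (Additive N)) v0) = _ at h2
      rw [h] at h1
      exact h1.symm.trans h2
  have hform : ∀ φ : C, φ = 0 ∨ ∃ c, φ = ⟨act c, hactC c⟩ := fun φ => by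
    rcases eq_or_ne ((φ : AddMonoid.End (Additive N)) v0) 0 with h | h
    · exact Or.inl (hev φ 0 h)
    · obtain ⟨c, hc⟩ := htr' _ h
      exact Or.inr ⟨c, hev φ ⟨act c, hactC c⟩ hc.symm⟩
  have hF : IsField C :=
    { exists_pair_ne := ⟨0, 1, fun h => hv0ne (by
        have := congrArg (fun φ : C => (φ : AddMonoid.End (Additive N)) v0) h
        simpa using this.symm)⟩
      mul_comm := fun φ ψ => by
        rcases hform φ with rfl | ⟨c, rfl⟩
        · rw [zero_mul, mul_zero]
        · exact Subtype.ext (Subring.mem_centralizer_iff.mp ψ.2 _ ⟨c, rfl⟩)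
      mul_inv_cancel := fun {φ} hφ => by
        rcases hform φ with rfl | ⟨c, rfl⟩
        · exact absurd rfl hφ
        · exact ⟨⟨act c⁻¹, hactC c⁻¹⟩, Subtype.ext (by
            show act c * act c⁻¹ = 1
            rw [← hmul, mul_inv_cancel, hone])⟩ }
  let ev : C → Additive N := fun φ => (φ : AddMonoid.End (Additive N)) v0
  have hevb : Function.Bijective ev := ⟨fun a b h => hev a b h, fun v => by
    rcases eq_or_ne v 0 with rfl | hv
    · exact ⟨0, rfl⟩
    · obtain ⟨c, hc⟩ := htr' v hv; exact ⟨⟨act c, hactC c⟩, hc⟩⟩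
  letI : Field C := hF.toField
  haveI : Finite C := Finite.of_injective ev hevb.1
  haveI : CharP C p := by
    refine (CharP.charP_iff_prime_eq_zero (Fact.out : p.Prime)).mpr (hev _ _ ?_)
    show ((p : C) : AddMonoid.End (Additive N)) v0 = 0
    rw [SubringClass.coe_natCast, AddMonoid.End.natCast_apply]
    exact Additive.toMul.injective (Subtype.ext (by simpa [hv0] using hexp z hz))
  obtain ⟨ω, hω⟩ := IsCyclic.exists_monoid_generator (α := (C : Type u)ˣ)
  obtain ⟨c, hc⟩ := (hform (ω : C)).resolve_left ω.ne_zero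
  let E := Equiv.ofBijective ev hevb
  refine ⟨C, inferInstance, inferInstance, inferInstance, ω, c, fun a => E.symm (Additive.ofMul a),
    E.symm.bijective.comp Additive.ofMul.bijective, fun a b => ?_, fun x => ?_, fun a => ?_⟩
  · refine E.injective ?_
    rw [E.apply_symm_apply]
    show _ = ev (_ + _)
    show _ = ev _ + ev _
    rw [show ev = E from rfl, E.apply_symm_apply, E.apply_symm_apply]
    rfl
  · exact Submonoid.mem_powers_iff _ _ |>.mp (hω x)
  · refine E.injective ?_
    rw [E.apply_symm_apply, hc]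
    show _ = act c (ev (E.symm (Additive.ofMul a)))
    rw [show ev = E from rfl, E.apply_symm_apply]
    rfl

end CfsgLib.OneSeen
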