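import Mathlib
import Cfsg.Agent.Lib.OneSeen.Layer
import Cfsg.Agent.Lib.Tate
import Cfsg.Agent.Lib.FpfFour.Main
import Cfsg.Agent.Lib.Frobenius.Splitting
import Cfsg.Agent.Lib.TausskyTwo

/-!
Solvability of a group `G` with a normal `K ≤ G'` such that `G' \ K` is one class and the classes
outside `G'` are unions of cosets of `G'` modulo `K`.
-/

set_option autoImplicit false
set_option linter.unusedSectionVars false

namespace CfsgLib.OneSeen

open Subgroup
open scoped commutatorElement

universe u

variable {G : Type u} [Group G] [Finite G]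

theorem mul_pow_central {a b : G} (hc : ⁅b, a⁆ ∈ center G) (n : ℕ) :
    (a * b) ^ n = a ^ n * b ^ n * ⁅b, a⁆ ^ n.choose 2 := by
  set z := ⁅b, a⁆ with hz
  have hza : ∀ w, w * z = z * w := Subgroup.mem_center_iff.mp hc
  have hba : b * a = z * (a * b) := by rw [hz, commutatorElement_def]; group
  have hbn : ∀ k : ℕ, b ^ k * a = z ^ k * (a * b ^ k) := fun k => by
    induction k with
    | zero => simp
    | succ k ih =>
      rw [pow_succ, mul_assoc, hba, ← mul_assoc, hza, mul_assoc z, ← mul_assoc (b ^ k), ih, pow_succ' z k]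
      simp only [mul_assoc]
  induction n with
  | zero => simp
  | succ k ih =>
    have hcz : ∀ (j : ℕ) (w : G), w * z ^ j = z ^ j * w := fun j w => Commute.pow_right (hza w) j
    have ech : z ^ ((k + 1).choose 2) = z ^ k * z ^ k.choose 2 := by
      rw [Nat.choose_succ_succ' k 1, Nat.choose_one_right, pow_add]
    rw [pow_succ (a * b), ih, ech]
    calc a ^ k * b ^ k * z ^ k.choose 2 * (a * b)
        = a ^ k * (b ^ k * a) * b * z ^ k.choose 2 := by
          rw [mul_assoc _ (z ^ k.choose 2), ← hcz]; group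
      _ = a ^ k * (z ^ k * (a * b ^ k)) * b * z ^ k.choose 2 := by rw [hbn]
      _ = a ^ (k + 1) * b ^ (k + 1) * (z ^ k * z ^ k.choose 2) := by
          rw [← hcz k (a * b ^ k), pow_succ, pow_succ]
          simp only [mul_assoc]
          rw [← mul_assoc (z ^ k) b, ← hcz k b]
          simp only [mul_assoc]

/-- A group having such a Sylow structure is solvable once the `p`-part is small. -/
theorem isSolvable_of_kernel {p : ℕ} [Fact p.Prime] (K : Subgroup G) [K.Normal] (g : G) (hgK : g ∉ K)
    (hKN : K ≤ commutator G) (hgN : g ∈ commutator G)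
    (hNab : ∀ x ∈ commutator G, ∀ y ∈ commutator G, ⁅x, y⁆ ∈ K)
    (hconj : ∀ x ∈ commutator G, x ∉ K → IsConj g x)
    (hcomp : Cfsg.HasNormalPComplement p K)
    (hord : ∃ e, orderOf g = p ^ e)
    (hsmall : g ^ p = 1 ∨ (p = 2 ∧ g ^ 4 = 1)) : Group.IsSolvable G := by
  classical
  have hout : ∀ x ∈ commutator G, x ∉ K → orderOf x = orderOf g := fun x hx hxK =>
    (orderOf_eq_of_isConj (hconj x hx hxK)).symm
  suffices hK : Group.IsSolvable K by
    have h1 : Group.IsSolvable (G ⧸ K) := by
      set π := QuotientGroup.mk' K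
      have hd : Group.IsSolvable ((commutator G).map π) := isSolvable_of_comm (by
        rintro ⟨_, x, hx, rfl⟩ ⟨_, y, hy, rfl⟩
        refine Subtype.ext ?_
        show π x * π y = π y * π x
        rw [← commutatorElement_eq_one_iff_mul_comm, ← map_commutatorElement]
        exact (QuotientGroup.eq_one_iff _).mpr (hNab x hx y hy))
      haveI : ((commutator G).map π).Normal :=
        Subgroup.Normal.map inferInstance _ (QuotientGroup.mk'_surjective K)
      have hq : Group.IsSolvable ((G ⧸ K) ⧸ (commutator G).map π) := isSolvable_of_comm (by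
        intro a b
        obtain ⟨a, rfl⟩ := QuotientGroup.mk'_surjective _ a
        obtain ⟨b, rfl⟩ := QuotientGroup.mk'_surjective _ b
        obtain ⟨a, rfl⟩ := QuotientGroup.mk'_surjective _ a
        obtain ⟨b, rfl⟩ := QuotientGroup.mk'_surjective _ b
        rw [← commutatorElement_eq_one_iff_mul_comm, ← map_commutatorElement, ← map_commutatorElement]
        exact (QuotientGroup.eq_one_iff _).mpr
          (mem_map_of_mem _ (commutator_mem_commutator (mem_top a) (mem_top b))))
      exact solvable_of_ker_le_range ((commutator G).map π).subtype (QuotientGroup.mk' ((commutator G).map π)) (by rw [QuotientGroup.ker_mk', Subgroup.range_subtype])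
    exact solvable_of_ker_le_range K.subtype (QuotientGroup.mk' K) (by rw [QuotientGroup.ker_mk', Subgroup.range_subtype])
  rcases hsmall with hg | ⟨rfl, hg4⟩
  · -- prime order outside `K` in `G'`
    haveI : (K.subgroupOf (commutator G)).Normal := inferInstance
    have h1 := CfsgLib.Frob.isNilpotent_of_pow_eq_one_outside (Fact.out : p.Prime)
      (K.subgroupOf (commutator G)) (fun h => hgK (Subgroup.subgroupOf_eq_top.mp h hgN)) fun w hw => by
        refine Subtype.ext ?_
        show (w : G) ^ p = 1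
        rw [← orderOf_dvd_iff_pow_eq_one, hout w w.2 (fun h => hw (Subgroup.mem_subgroupOf.mpr h))]
        exact orderOf_dvd_of_pow_eq_one hg
    have : Group.IsSolvable (K.subgroupOf (commutator G)) := inferInstance
    exact solvable_of_surjective (f := (Subgroup.subgroupOfEquivOfLe hKN).toMonoidHom) (Subgroup.subgroupOfEquivOfLe hKN).surjective
  -- `p = 2`, `g` acts without fixed points on the normal `2`-complement
  obtain ⟨P, M0, hM0n, hc⟩ := hcomp
  have hM0card : ¬ 2 ∣ Nat.card M0 := hc.index_eq_card ▸ P.not_dvd_index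
  have hquot : IsPGroup 2 (K ⧸ M0) := by
    obtain ⟨k, hk⟩ := IsPGroup.iff_card.mp P.isPGroup'
    exact IsPGroup.of_card (n := k) (by rw [← hk, ← Subgroup.index_eq_card, hc.symm.index_eq_card])
  have hmem : ∀ x : K, x ∈ M0 ↔ ¬ 2 ∣ orderOf x := by
    intro x
    constructor
    · intro hx h
      exact hM0card (h.trans (Subgroup.orderOf_mk x hx ▸ orderOf_dvd_natCard (⟨x, hx⟩ : M0)))
    · intro hx
      obtain ⟨k, hk⟩ := IsPGroup.iff_orderOf.mp hquot (x : K ⧸ M0)
      rcases k with _ | k
      · exact (QuotientGroup.eq_one_iff x).mp (orderOf_eq_one_iff.mp (by simpa using hk))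
      · exfalso
        exact hx (((dvd_pow_self 2 k.succ_ne_zero).trans hk.symm.dvd).trans
          (orderOf_map_dvd (QuotientGroup.mk' M0) x))
  set M := M0.map K.subtype with hM
  haveI hMn : M.Normal := by
    refine ⟨fun x hx c => ?_⟩
    obtain ⟨y, hy, rfl⟩ := hx
    refine ⟨⟨c * y * c⁻¹, (inferInstance : K.Normal).conj_mem _ y.2 c⟩, (hmem _).mpr ?_, rfl⟩
    rw [← Subgroup.orderOf_coe]
    show ¬ 2 ∣ orderOf (c * (y : G) * c⁻¹)
    rw [← orderOf_eq_of_isConj (isConj_iff.mpr ⟨c, rfl⟩), Subgroup.orderOf_coe]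
    exact (hmem y).mp hy
  let φ : MulAut M := MulAut.conjNormal g
  have h4 : φ ^ 4 = 1 := by rw [← map_pow, hg4, map_one]
  have hfpf : ∀ m : M, φ m = m → m = 1 := by
    intro m hm
    have hcm : g * (m : G) * g⁻¹ = m := by
      rw [← MulAut.conjNormal_apply]; exact congrArg Subtype.val hm
    have hcomm : Commute g (m : G) := mul_inv_eq_iff_eq_mul.mp hcm
    obtain ⟨y, hy, hym⟩ := m.2
    have hmK : (m : G) ∈ K := hym ▸ y.2
    have hm2 : ¬ 2 ∣ orderOf (m : G) := by
      rw [← hym]; show ¬ 2 ∣ orderOf ((y : G))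
      rw [Subgroup.orderOf_coe]; exact (hmem y).mp hy
    obtain ⟨e, he⟩ := hord
    have h1 := hout (g * m) (mul_mem hgN (hKN hmK)) fun h => hgK ((K.mul_mem_cancel_right hmK).mp h)
    rw [hcomm.orderOf_mul_eq_mul_orderOf_of_coprime
      (by rw [he]; exact ((Nat.prime_two.coprime_iff_not_dvd.mpr hm2).pow_left e))] at h1
    exact Subtype.ext (orderOf_eq_one_iff.mp (Nat.eq_of_mul_eq_mul_left (orderOf_pos g)
      (by rw [mul_one]; exact h1)))
  have hMs := CfsgLib.FpfFour.isSolvable_of_fpf_four φ h4 hfpf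
  have hM0s : Group.IsSolvable M0 :=
    solvable_of_surjective (f := (M0.equivMapOfInjective _ K.subtype_injective).symm.toMonoidHom)
      (M0.equivMapOfInjective _ K.subtype_injective).symm.surjective
  have := hquot.isNilpotent
  exact solvable_of_ker_le_range M0.subtype (QuotientGroup.mk' M0) (by rw [QuotientGroup.ker_mk', Subgroup.range_subtype])

set_option maxHeartbeats 1000000 in
/-- The core of the solvability statement. -/
theorem isSolvable_core (K : Subgroup G) [K.Normal] (g : G) (hgN : g ∈ commutator G) (hgK : g ∉ K)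
    (hKN : K ≤ commutator G) (hconj : ∀ x ∈ commutator G, x ∉ K → IsConj g x)
    (hcls : ∀ x, x ∉ commutator G → ∀ n ∈ commutator G, ∃ c, (c * x * c⁻¹)⁻¹ * (x * n) ∈ K) :
    Group.IsSolvable G := by
  classical
  set π := QuotientGroup.mk' K with hπ
  have hπs := QuotientGroup.mk'_surjective K
  have hmap : commutator (G ⧸ K) = (commutator G).map π := by
    rw [_root_.commutator_def, _root_.commutator_def, map_commutator, map_top_of_surjective _ hπs]
  have hπK : ∀ x, π x = 1 ↔ x ∈ K := fun x => QuotientGroup.eq_one_iff x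
  have hπN : ∀ x, π x ∈ commutator (G ⧸ K) ↔ x ∈ commutator G := fun x => by
    rw [hmap]
    refine ⟨?_, fun h => mem_map_of_mem _ h⟩
    rintro ⟨y, hy, hyx⟩
    have hk : y⁻¹ * x ∈ K := QuotientGroup.eq.mp hyx
    simpa using mul_mem hy (hKN hk)
  have hL : Layer (G ⧸ K) := by
    refine ⟨fun h => hgK ((hπK g).mp (Subgroup.mem_bot.mp (h ▸ (hπN g).mpr hgN))), ?_, ?_⟩
    · intro x hx hx1 y hy hy1
      obtain ⟨x, rfl⟩ := hπs x
      obtain ⟨y, rfl⟩ := hπs y
      exact π.map_isConj (((hconj x ((hπN x).mp hx) fun h => hx1 ((hπK x).mpr h)).symm).trans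
        (hconj y ((hπN y).mp hy) fun h => hy1 ((hπK y).mpr h)))
    · intro x hx n hn
      obtain ⟨x, rfl⟩ := hπs x
      obtain ⟨n, rfl⟩ := hπs n
      obtain ⟨c, hc⟩ := hcls x (fun h => hx ((hπN x).mpr h)) n ((hπN n).mp hn)
      refine isConj_iff.mpr ⟨π c, ?_⟩
      rw [← map_mul, ← map_inv, ← map_mul, ← map_mul]
      exact QuotientGroup.eq.mpr hc
  obtain ⟨p, hp, hpg, hexp, hab⟩ := hL.exists_prime
  haveI := Fact.mk hp
  have hNab : ∀ x ∈ commutator G, ∀ y ∈ commutator G, ⁅x, y⁆ ∈ K := fun x hx y hy => by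
    rw [← hπK, map_commutatorElement, commutatorElement_eq_one_iff_mul_comm]
    exact hab _ ((hπN x).mpr hx) _ ((hπN y).mpr hy)
  set q := Nat.card (commutator (G ⧸ K)) with hq
  have hq2 : 2 ≤ q := (Subgroup.one_lt_card_iff_ne_bot _).mpr hL.ne_bot
  -- a Sylow subgroup
  obtain ⟨S⟩ : Nonempty (Sylow p G) := inferInstance
  set SQ := (S : Subgroup G).map π with hSQ
  have hSN : commutator (G ⧸ K) ≤ SQ := by
    obtain ⟨T, hT⟩ : ∃ T : Sylow p (G ⧸ K), (T : Subgroup (G ⧸ K)) = SQ :=
      ⟨S.mapSurjective hπs, rfl⟩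
    rw [← hT]
    exact hpg.le_sylow_of_normal T
  have hSQN : ∀ x ∈ (S : Subgroup G), x ∈ commutator G → x ∉ K → π x ∈ commutator (G ⧸ K) ∧ π x ≠ 1 :=
    fun x _ hxN hxK => ⟨(hπN x).mpr hxN, fun h => hxK ((hπK x).mp h)⟩
  -- replace `g` by an element of `S`
  obtain ⟨g', hg'S, hg'N, hg'K⟩ : ∃ x ∈ (S : Subgroup G), x ∈ commutator G ∧ x ∉ K := by
    obtain ⟨x, hx, hxg⟩ := hSN ((hπN g).mpr hgN)
    exact ⟨x, hx, (hπN x).mp (hxg ▸ (hπN g).mpr hgN), fun h => hgK ((hπK g).mp (hxg ▸ (hπK x).mpr h))⟩
  have hgg := hconj g' hg'N hg'K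
  have hconj' : ∀ x ∈ commutator G, x ∉ K → IsConj g' x := fun x hx hxK => hgg.symm.trans (hconj x hx hxK)
  clear hconj hgN hgK hgg g
  -- orders of centralisers
  have hindex : (commutator G).index = (commutator (G ⧸ K)).index := by
    rw [hmap, Subgroup.index_map_eq _ hπs (by rwa [QuotientGroup.ker_mk'])]
  have hcardS : Nat.card (S : Subgroup G) = Nat.card (K ⊓ S : Subgroup G) * Nat.card SQ := by
    have h := Subgroup.card_mul_index (π.comp (S : Subgroup G).subtype).ker
    rw [Subgroup.index_ker, MonoidHom.range_comp, Subgroup.range_subtype] at h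
    rw [← h, ← hSQ]
    congr 1
    rw [show (π.comp (S : Subgroup G).subtype).ker = K.subgroupOf S by
      rw [← MonoidHom.comap_ker, QuotientGroup.ker_mk']; rfl]
    rw [← Subgroup.card_map_of_injective (S : Subgroup G).subtype_injective,
      Subgroup.subgroupOf_map_subtype]
  have hcent : ∀ x ∈ commutator G, x ∉ K →
      (q - 1) * Nat.card (centralizer ({x} : Set G)) = q * (commutator G).index := by
    intro x hxN hxK
    have e : Nat.card {y : G // IsConj x y} + Nat.card K = Nat.card (commutator G) := by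
      rw [← Nat.card_congr (Subgroup.subgroupOfEquivOfLe hKN).toEquiv, ← Nat.card_sum]
      refine Nat.card_congr (Equiv.ofBijective (Sum.elim
        (fun y => (⟨y.1, ?_⟩ : commutator G)) (fun y => y.1)) ⟨?_, ?_⟩)
      · obtain ⟨c, hc⟩ := isConj_iff.mp y.2
        rw [← hc]; exact (inferInstance : (commutator G).Normal).conj_mem x hxN c
      · have hne : ∀ (y : {y : G // IsConj x y}), y.1 ∉ K := fun y h => hxK (by
          obtain ⟨c, hc⟩ := isConj_iff.mp y.2
          rw [← hc] at h
          simpa [mul_assoc] using (inferInstance : K.Normal).conj_mem _ h c⁻¹)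
        rintro (a | a) (b | b) h <;> simp only [Sum.elim_inl, Sum.elim_inr] at h
        · exact congrArg _ (Subtype.ext (by simpa using h))
        · exact absurd (h ▸ b.2 : _) (fun h' => hne a (by simpa [Subgroup.mem_subgroupOf] using h'))
        · exact absurd (h.symm ▸ a.2 : _) (fun h' => hne b (by simpa [Subgroup.mem_subgroupOf] using h'))
        · exact congrArg _ (Subtype.ext h)
      · intro y
        by_cases hy : (y : G) ∈ K
        · exact ⟨Sum.inr ⟨y, hy⟩, rfl⟩
        · exact ⟨Sum.inl ⟨y, (hconj' x hxN hxK).symm.trans (hconj' y y.2 hy)⟩, Subtype.ext rfl⟩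
    have hNc : Nat.card (commutator G) = q * Nat.card K := by
      have h := Subgroup.card_mul_index (π.comp (commutator G).subtype).ker
      rw [Subgroup.index_ker, MonoidHom.range_comp, Subgroup.range_subtype, ← hmap, ← hq] at h
      rw [← h, mul_comm q]
      congr 1
      rw [show (π.comp (commutator G).subtype).ker = K.subgroupOf (commutator G) by
        rw [← MonoidHom.comap_ker, QuotientGroup.ker_mk']; rfl]
      exact Nat.card_congr (Subgroup.subgroupOfEquivOfLe hKN).toEquiv
    have h2 := card_class_mul x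
    rw [show Nat.card {y : G // IsConj x y} = (q - 1) * Nat.card K by
      rw [Nat.sub_one_mul, ← hNc, ← e, Nat.add_sub_cancel],
      ← (commutator G).card_mul_index, hNc] at h2
    exact Nat.eq_of_mul_eq_mul_left (Nat.card_pos (α := K)) (by rw [← mul_assoc, mul_comm (Nat.card K), h2]; ring)
  -- both cases: the centraliser has the order of the Sylow subgroup of the quotient
  have hSQcases : (2 < q ∧ SQ = commutator (G ⧸ K) ∧ (commutator G).index = q - 1) ∨
      (q = 2 ∧ p = 2 ∧ SQ = ⊤ ∧ IsPGroup 2 (G ⧸ K)) := by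
    rcases hq2.lt_or_eq with h | h
    · refine Or.inl ⟨h, ?_, hindex.trans (hL.frobenius hpg h hab).2⟩
      refine le_antisymm (fun x hx => ?_) hSN
      obtain ⟨k, hk⟩ := S.isPGroup'.map π ⟨x, hx⟩
      exact hL.p_element_mem hpg h ⟨k, congrArg Subtype.val hk⟩
    · have hp2 : p = 2 := by
        obtain ⟨k, hk⟩ := IsPGroup.iff_card.mp hpg
        rcases k with _ | k
        · rw [pow_zero] at hk; omega
        · have e : p ∣ q := by rw [hq, hk]; exact dvd_pow_self p k.succ_ne_zero
          rw [← h] at e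
          exact (Nat.prime_dvd_prime_iff_eq hp Nat.prime_two).mp e
      subst hp2
      have h2g := hL.two_group hpg h.symm
      refine Or.inr ⟨h.symm, rfl, ?_, h2g⟩
      have : (S.mapSurjective hπs : Subgroup (G ⧸ K)) = ⊤ := by
        refine le_antisymm le_top ?_
        exact (h2g.to_subgroup ⊤).le_sylow_of_normal _
      exact this
  have hCcard : ∀ x ∈ commutator G, x ∉ K → Nat.card (centralizer ({x} : Set G)) = Nat.card SQ := by
    intro x hxN hxK
    have h1 := hcent x hxN hxK
    rcases hSQcases with ⟨h, hS, ha⟩ | ⟨h, -, hS, -⟩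
    · rw [hS]
      rw [ha, mul_comm q] at h1
      exact Nat.eq_of_mul_eq_mul_left (by omega) h1
    · rw [hS, Subgroup.card_top, ← (commutator (G ⧸ K)).card_mul_index, ← hq, ← hindex]
      rw [h] at h1 ⊢
      omega
  -- each coset of `K ⊓ S` in `G' \ K` is one `S`-class
  have hclsS : ∀ x ∈ (S : Subgroup G), x ∈ commutator G → x ∉ K →
      (∀ s ∈ (S : Subgroup G), x⁻¹ * (s * x * s⁻¹) ∈ K) →
      ∀ k ∈ (K ⊓ S : Subgroup G), ∃ s ∈ (S : Subgroup G), s * x * s⁻¹ = x * k := by
    intro x hxS hxN hxK hcen k hk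
    set C := centralizer ({⟨x, hxS⟩} : Set (S : Subgroup G))
    let f : (S : Subgroup G) ⧸ C → (K ⊓ S : Subgroup G) := Quotient.lift
      (fun s => (⟨x⁻¹ * ((s : G) * x * (s : G)⁻¹), hcen s s.2,
        (S : Subgroup G).mul_mem ((S : Subgroup G).inv_mem hxS) ((S : Subgroup G).mul_mem ((S : Subgroup G).mul_mem s.2 hxS) ((S : Subgroup G).inv_mem s.2))⟩ : (K ⊓ S : Subgroup G))) (by
        intro a b hab'
        have h1 : a⁻¹ * b ∈ C := QuotientGroup.leftRel_apply.mp hab'
        have h2 : ((a : G)⁻¹ * b) * x = x * ((a : G)⁻¹ * b) :=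
          congrArg Subtype.val (mem_centralizer_singleton_iff.mp h1)
        refine Subtype.ext (congrArg (fun w => x⁻¹ * w) ?_)
        calc (a : G) * x * (a : G)⁻¹ = (a : G) * (x * ((a : G)⁻¹ * b)) * (b : G)⁻¹ := by group
          _ = (b : G) * x * (b : G)⁻¹ := by rw [← h2]; group)
    have hinj : Function.Injective f := by
      intro a b
      induction a using QuotientGroup.induction_on with | H a =>
      induction b using QuotientGroup.induction_on with | H b =>
      intro h
      have h1 : (a : G) * x * (a : G)⁻¹ = (b : G) * x * (b : G)⁻¹ :=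
        mul_left_cancel (congrArg Subtype.val h)
      refine QuotientGroup.eq.mpr (mem_centralizer_singleton_iff.mpr (Subtype.ext ?_))
      show ((a : G)⁻¹ * b) * x = x * ((a : G)⁻¹ * b)
      calc ((a : G)⁻¹ * b) * x = (a : G)⁻¹ * ((b : G) * x * (b : G)⁻¹) * b := by group
        _ = x * ((a : G)⁻¹ * b) := by rw [← h1]; group
    have hCle : Nat.card C ≤ Nat.card SQ := by
      rw [← hCcard x hxN hxK, ← Subgroup.card_map_of_injective (S : Subgroup G).subtype_injective]
      refine Subgroup.card_le_of_le ?_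
      rintro _ ⟨c, hc, rfl⟩
      exact mem_centralizer_singleton_iff.mpr (congrArg Subtype.val (mem_centralizer_singleton_iff.mp hc))
    have hge : Nat.card (K ⊓ S : Subgroup G) ≤ Nat.card ((S : Subgroup G) ⧸ C) := by
      refine Nat.le_of_mul_le_mul_right ?_ (Nat.card_pos (α := SQ))
      rw [← hcardS, Subgroup.card_eq_card_quotient_mul_card_subgroup C]
      exact Nat.mul_le_mul_left _ hCle
    obtain ⟨c, hc⟩ := (hinj.bijective_of_nat_card_le hge).2 ⟨k, hk⟩
    obtain ⟨s, rfl⟩ := QuotientGroup.mk_surjective c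
    refine ⟨s, s.2, ?_⟩
    have h1 : x⁻¹ * ((s : G) * x * (s : G)⁻¹) = k := congrArg Subtype.val hc
    rw [← h1, mul_inv_cancel_left]
  -- Tate
  have hcen' : ∀ x ∈ (S : Subgroup G), x ∈ commutator G →
      ∀ s ∈ (S : Subgroup G), x⁻¹ * (s * x * s⁻¹) ∈ K := by
    intro x hxS hxN s hs
    rw [← hπK]
    have h1 : π s * π x = π x * π s := by
      rcases hSQcases with ⟨-, hS, -⟩ | ⟨h, -, -, -⟩
      · exact hab _ (hS ▸ mem_map_of_mem _ hs) _ ((hπN x).mpr hxN)
      · rcases eq_or_ne (π x) 1 with h1 | h1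
        · rw [h1, mul_one, one_mul]
        · have h3 := hL.card_centralizer_mem ((hπN x).mpr hxN) h1
          rw [← hq, h, show 2 - 1 = 1 from rfl, one_mul] at h3
          exact mem_centralizer_singleton_iff.mp (Subgroup.eq_top_of_card_eq _ h3 ▸ mem_top (π s))
    rw [map_mul, map_inv, map_mul, map_mul, map_inv, h1]
    group
  set S' := (S : Subgroup G) with hS'def
  have hKS : (K ⊓ S' : Subgroup G) ≤ (commutator ↥S').map S'.subtype := by
    intro k hk
    obtain ⟨s, hs, hsk⟩ := hclsS g' hg'S hg'N hg'K (hcen' g' hg'S hg'N) k hk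
    refine ⟨⁅(⟨g', hg'S⟩ : S')⁻¹, ⟨s, hs⟩⁆, commutator_mem_commutator (mem_top _) (mem_top _), ?_⟩
    show g'⁻¹ * s * g'⁻¹⁻¹ * s⁻¹ = k
    rw [inv_inv, show g'⁻¹ * s * g' * s⁻¹ = g'⁻¹ * (s * g' * s⁻¹) by group, hsk, inv_mul_cancel_left]
  have hcomp : Cfsg.HasNormalPComplement p K := by
    exact CfsgLib.hasNormalPComplement_of_inf_le_frattini S K
      (hKS.trans (map_mono (CfsgLib.commutator_le_frattini_pGroup S.isPGroup')))
  obtain ⟨e, he⟩ := IsPGroup.iff_orderOf.mp S.isPGroup' ⟨g', hg'S⟩
  rw [Subgroup.orderOf_mk] at he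
  refine isSolvable_of_kernel K g' hg'K hKN hg'N hNab hconj' hcomp ⟨e, he⟩ ?_
  rcases hSQcases with ⟨h2q, hS, ha⟩ | ⟨hq2', rfl, hS, h2g⟩
  · -- class two
    have hSinN : ∀ x ∈ S', x ∈ commutator G := fun x hx => (hπN x).mp (hS ▸ mem_map_of_mem _ hx)
    have hSder : commutator ↥S' = K.subgroupOf S' := by
      refine le_antisymm ?_ fun k hk => ?_
      · rw [_root_.commutator_def, commutator_le]
        intro u _ v _
        exact hNab u (hSinN u u.2) v (hSinN v v.2)
      · obtain ⟨w, hw, hwk⟩ := hKS ⟨Subgroup.mem_subgroupOf.mp hk, k.2⟩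
        rwa [Subtype.ext hwk] at hw
    obtain ⟨F, _, _, _, ω, c, e', hbij, hadd, hω, he'⟩ := exists_field_model (p := p) hL.ne_bot hexp hab
      hL.trans le_rfl
    obtain ⟨n, hn⟩ : ∃ n, Nat.card F = p ^ n := by
      obtain ⟨n, hn⟩ := IsPGroup.iff_card.mp hpg
      exact ⟨n, by rw [← Nat.card_eq_of_bijective _ hbij, hn]⟩
    -- lift `c` into the normaliser of `S`
    obtain ⟨c0, hc0, hc0c⟩ : ∃ c0 ∈ normalizer (S' : Set G), π c0 = c := by
      have hsup : normalizer (S' : Set G) ⊔ commutator G = ⊤ :=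
        Sylow.normalizer_sup_eq_top' S (fun x hx => hSinN x hx)
      have : (normalizer (S' : Set G)).map π = ⊤ := by
        refine top_unique ?_
        rw [← map_top_of_surjective _ hπs, ← hsup, Subgroup.map_sup, ← hmap]
        exact sup_le le_rfl (hSN.trans (map_mono Subgroup.le_normalizer))
      exact Subgroup.mem_map.mp (this ▸ mem_top c)
    let toN : S' → commutator (G ⧸ K) := fun x => ⟨π (x : G), hS ▸ mem_map_of_mem _ x.2⟩
    have he1 : e' 1 = 0 := by
      have := hadd 1 1
      rw [one_mul] at this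
      exact left_eq_add.mp this
    let D : Datum F ω S' :=
      { π :=
          { toFun := fun x => Multiplicative.ofAdd (e' (toN x))
            map_one' := by
              rw [show toN 1 = 1 from Subtype.ext (map_one π), he1]; rfl
            map_mul' := fun x y => by
              rw [← ofAdd_add, ← hadd]
              exact congrArg (fun w => Multiplicative.ofAdd (e' w)) (Subtype.ext (map_mul π (x : G) y)) }
        σ :=
          { toFun := fun x => ⟨c0 * x * c0⁻¹, (Subgroup.mem_normalizer_iff.mp hc0 _).mp x.2⟩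
            map_one' := Subtype.ext (by simp)
            map_mul' := fun x y => Subtype.ext (by simp) }
        surj := fun u => by
          obtain ⟨w, hw⟩ := hbij.2 u.toAdd
          obtain ⟨x, hx, hxw⟩ := (hS.symm ▸ w.2 : (w : G ⧸ K) ∈ SQ)
          exact ⟨⟨x, hx⟩, Multiplicative.toAdd.injective (by
            show e' (toN ⟨x, hx⟩) = u.toAdd
            rw [show toN ⟨x, hx⟩ = w from Subtype.ext hxw, hw])⟩
        ker := by
          ext x
          rw [hSder, Subgroup.mem_subgroupOf, ← hπK, MonoidHom.mem_ker]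
          show Multiplicative.ofAdd (e' (toN x)) = 1 ↔ _
          rw [ofAdd_eq_one, ← he1, hbij.1.eq_iff]
          exact ⟨fun h => congrArg Subtype.val h, fun h => Subtype.ext h⟩
        compat := fun x => by
          show e' _ = ω * e' (toN x)
          rw [← he']
          refine congrArg e' (Subtype.ext ?_)
          show π (c0 * x * c0⁻¹) = c * π (x : G) * c⁻¹
          rw [map_mul, map_mul, map_inv, hc0c]
        cls := fun x hx k hk => by
          rw [hSder] at hx hk
          obtain ⟨s, hs, hsk⟩ := hclsS x x.2 (hSinN x x.2) hx (hcen' x x.2 (hSinN x x.2)) k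
            ⟨Subgroup.mem_subgroupOf.mp hk, k.2⟩
          exact ⟨⟨s, hs⟩, Subtype.ext hsk⟩ }
    have hc2 := D.commutator_le_center hn hω S.isPGroup'
    have hcmem : ∀ a b : S', ⁅a, b⁆ ∈ commutator ↥S' := fun a b =>
      commutator_mem_commutator (mem_top a) (mem_top b)
    have hpowmem : ∀ a : S', a ^ p ∈ commutator ↥S' := fun a => by
      rw [D.mem_iff, map_pow, toAdd_pow, nsmul_eq_mul, CharP.cast_eq_zero, zero_mul]
    have hkexp : ∀ y ∈ commutator ↥S', y ^ p = 1 := by
      intro y hy
      rw [commutator_eq_closure] at hy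
      induction hy using Subgroup.closure_induction with
      | mem y hy =>
        obtain ⟨a, b, rfl⟩ := hy
        have h1 : ∀ i : ℕ, ⁅a, b⁆ ^ i = ⁅a ^ i, b⁆ := fun i => by
          induction i with
          | zero => simp
          | succ i ih =>
            rw [pow_succ', ih, pow_succ, comm_mul_left rfl (hc2 (hcmem _ _))]
        rw [h1]
        exact commutatorElement_eq_one_iff_mul_comm.mpr
          (Subgroup.mem_center_iff.mp (hc2 (hpowmem a)) b).symm
      | one => exact one_pow _
      | mul x y hx hy h1 h2 =>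
        rw [Commute.mul_pow, h1, h2, one_mul]
        refine Subgroup.mem_center_iff.mp (hc2 ?_) x
        rw [commutator_eq_closure]; exact hy
      | inv x _ h1 => rw [inv_pow, h1, inv_one]
    rcases hp.eq_two_or_odd with rfl | hodd
    · refine Or.inr ⟨rfl, ?_⟩
      have := hkexp _ (hpowmem ⟨g', hg'S⟩)
      rw [← pow_mul] at this
      exact congrArg Subtype.val this
    · refine Or.inl ?_
      -- the power map is a homomorphism into the small group `S'`
      have hchoose : p ∣ p.choose 2 := hp.dvd_choose_self (by norm_num) (by have := hp.two_le; omega)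
      let P : S' →* S' := MonoidHom.mk' (fun x => x ^ p) fun a b => by
        rw [mul_pow_central (hc2 (hcmem b a))]
        obtain ⟨t, ht⟩ := hchoose
        rw [ht, pow_mul, hkexp _ (hcmem b a), one_pow, mul_one]
      have hsmall : Nat.card P.range < Nat.card F := by
        refine lt_of_le_of_lt (Subgroup.card_le_of_le ?_) (D.card_lt le_rfl hc2)
        rintro _ ⟨x, rfl⟩
        exact hpowmem x
      have hKlt : ¬ P.ker ≤ commutator ↥S' := by
        intro h
        have h1 : (commutator ↥S').index ∣ P.ker.index := Subgroup.index_dvd_of_le h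
        have h2 : (commutator ↥S').index = Nat.card F := by
          rw [← D.ker, Subgroup.index_ker, MonoidHom.range_eq_top.mpr D.surj, Subgroup.card_top]
          exact Nat.card_congr Multiplicative.toAdd
        have := Nat.le_of_dvd (Nat.pos_of_ne_zero Subgroup.index_ne_zero_of_finite) h1
        rw [h2, Subgroup.index_ker] at this
        omega
      obtain ⟨x, hxk, hxn⟩ := SetLike.not_le_iff_exists.mp hKlt
      rw [hSder] at hxn
      have h1 : (x : G) ^ p = 1 := congrArg Subtype.val (MonoidHom.mem_ker.mp hxk)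
      rw [← orderOf_dvd_iff_pow_eq_one, orderOf_eq_of_isConj (hconj' x (hSinN x x.2) hxn),
        orderOf_dvd_iff_pow_eq_one]
      exact h1
  · -- `q = 2`
    have hg2 : g' ^ 2 ∈ K := by
      rw [← hπK, map_pow]; exact hexp _ ((hπN g').mpr hg'N)
    rcases eq_or_ne (K ⊓ S' : Subgroup G) ⊥ with h0 | h0
    · exact Or.inl (Subgroup.mem_bot.mp (h0 ▸ ⟨hg2, pow_mem hg'S 2⟩))
    refine Or.inr ⟨rfl, ?_⟩
    set J := commutator ↥S' with hJ
    set L0 := K.subgroupOf S' with hL0
    have hL0J : L0 ≤ J := fun k hk => by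
      obtain ⟨w, hw, hwk⟩ := hKS ⟨Subgroup.mem_subgroupOf.mp hk, k.2⟩
      rwa [Subtype.ext hwk] at hw
    let θ : S' →* G ⧸ K := π.comp S'.subtype
    have hθs : Function.Surjective θ := by
      rw [← MonoidHom.range_eq_top, MonoidHom.range_comp, Subgroup.range_subtype]; exact hS
    have hθker : θ.ker = L0 := by
      rw [← MonoidHom.comap_ker, QuotientGroup.ker_mk']; rfl
    have hJθ : J.map θ = commutator (G ⧸ K) := by
      rw [hJ, _root_.commutator_def, _root_.commutator_def, map_commutator, map_top_of_surjective _ hθs]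
    have hJmem : ∀ x : S', x ∈ J ↔ θ x ∈ commutator (G ⧸ K) := fun x => by
      rw [← hJθ]
      refine ⟨fun h => mem_map_of_mem _ h, ?_⟩
      rintro ⟨y, hy, hyx⟩
      have : y⁻¹ * x ∈ L0 := hθker ▸ MonoidHom.mem_ker.mpr (by rw [map_mul, map_inv, hyx, inv_mul_cancel])
      simpa using mul_mem hy (hL0J this)
    set gs : S' := ⟨g', hg'S⟩
    have hgJ : gs ∈ J := (hJmem gs).mpr ((hπN g').mpr hg'N)
    have hgL : gs ∉ L0 := fun h => hg'K (Subgroup.mem_subgroupOf.mp h)
    have hclsL : ∀ k ∈ L0, ∃ s : S', s * gs * s⁻¹ = gs * k := fun k hk => by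
      obtain ⟨s, hs, hsk⟩ := hclsS g' hg'S hg'N hg'K (hcen' g' hg'S hg'N) k ⟨Subgroup.mem_subgroupOf.mp hk, k.2⟩
      exact ⟨⟨s, hs⟩, Subtype.ext hsk⟩
    have hJdec : ∀ x ∈ J, x ∈ L0 ∨ gs⁻¹ * x ∈ L0 := by
      intro x hx
      have hc : Nat.card (commutator (G ⧸ K)) = 2 := hq2'
      rcases eq_or_ne (θ x) 1 with h | h
      · exact Or.inl (hθker ▸ MonoidHom.mem_ker.mpr h)
      · refine Or.inr (hθker ▸ MonoidHom.mem_ker.mpr ?_)
        obtain ⟨z, w, hzw, huniv⟩ := Nat.card_eq_two_iff.mp hc
        have h1 : ∀ a : commutator (G ⧸ K), a = z ∨ a = w := fun a => by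
          simpa using (huniv.symm ▸ Set.mem_univ a : a ∈ ({z, w} : Set _))
        have hg1 : θ gs ≠ 1 := fun e => hg'K ((hπK g').mp e)
        have : θ gs = θ x := by
          rcases h1 ⟨θ x, (hJmem x).mp hx⟩ with a | a <;> rcases h1 ⟨θ gs, (hJmem gs).mp hgJ⟩ with b | b <;>
            rcases h1 1 with d | d <;>
            first
              | exact congrArg Subtype.val (b.trans a.symm)
              | exact absurd (congrArg Subtype.val (a.trans d.symm)) h
              | exact absurd (congrArg Subtype.val (b.trans d.symm)) hg1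
        rw [map_mul, map_inv, this, inv_mul_cancel]
    have hL0ne : L0 ≠ ⊥ := fun e => h0 (by
      rw [eq_bot_iff]; intro k hk
      have : (⟨k, hk.2⟩ : S') ∈ L0 := hk.1
      rw [e, Subgroup.mem_bot] at this
      exact congrArg Subtype.val this)
    obtain ⟨R, hRn, hRL, hLcard, hLcen⟩ := CfsgLib.exists_normal_maximal_below S.isPGroup' (Q := L0) hL0ne
    set ψ := QuotientGroup.mk' R
    have hψs := QuotientGroup.mk'_surjective R
    set C := centralizer (((J.map ψ) : Subgroup (S' ⧸ R)) : Set (S' ⧸ R)) with hC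
    have hJψ : commutator (S' ⧸ R) = J.map ψ := by
      rw [hJ, _root_.commutator_def, _root_.commutator_def, map_commutator, map_top_of_surjective _ hψs]
    have hgmove : ∃ s : S', ⁅ψ gs, ψ s⁆ ≠ 1 := by
      obtain ⟨k, hkL, hkR⟩ : ∃ k ∈ L0, k ∉ R := SetLike.not_le_iff_exists.mp fun h => by
        have e := (Subgroup.map_eq_bot_iff _).mpr (h.trans (QuotientGroup.ker_mk' R).ge)
        rw [e, Subgroup.card_bot] at hLcard
        omega
      obtain ⟨s, hs⟩ := hclsL k hkL
      refine ⟨s, fun h => hkR ((QuotientGroup.eq_one_iff k).mp ?_)⟩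
      rw [commutatorElement_eq_one_iff_mul_comm] at h
      have h1 := congrArg ψ hs
      rw [map_mul, map_mul, map_inv, map_mul, ← h, mul_inv_cancel_right] at h1
      exact left_eq_mul.mp h1
    -- the quotient has an abelian subgroup of index two
    have hCC : ∀ u ∈ C, ∀ v ∈ C, ⁅u, v⁆ ∈ L0.map ψ := by
      intro u hu v hv
      have hJC : ⁅J.map ψ, C⁆ = ⊥ := by
        rw [commutator_eq_bot_iff_le_centralizer]
        intro a ha
        exact mem_centralizer_iff.mpr fun b hb => (mem_centralizer_iff.mp hb a ha).symm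
      have hrot : ⁅⁅C, C⁆, (⊤ : Subgroup (S' ⧸ R))⁆ = ⊥ := by
        refine commutator_commutator_eq_bot_of_rotate ?_ ?_ <;>
          refine eq_bot_iff.mpr (le_trans (commutator_mono ?_ le_rfl) hJC.le) <;>
          rw [← hJψ, _root_.commutator_def] <;> exact commutator_mono le_top le_top
      have hcuv : ⁅u, v⁆ ∈ center (S' ⧸ R) := Subgroup.mem_center_iff.mpr fun w =>
        mem_centralizer_iff.mp (commutator_eq_bot_iff_le_centralizer.mp hrot (commutator_mem_commutator hu hv)) w (mem_top w)
      obtain ⟨j, hj, hju⟩ : ∃ j ∈ J, ψ j = ⁅u, v⁆ :=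
        Subgroup.mem_map.mp (hJψ ▸ commutator_mem_commutator (mem_top u) (mem_top v))
      rcases hJdec j hj with h | h
      · exact hju ▸ mem_map_of_mem _ h
      · exfalso
        obtain ⟨s, hs⟩ := hgmove
        refine hs ?_
        have h2 : ψ (gs⁻¹ * j) ∈ center (S' ⧸ R) := hLcen (mem_map_of_mem _ h)
        rw [map_mul, map_inv] at h2
        have h3 : ψ gs ∈ center (S' ⧸ R) := by
          have h4 := mul_mem hcuv (inv_mem h2)
          rwa [← hju, mul_inv_rev, inv_inv, mul_inv_cancel_left] at h4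
        exact commutatorElement_eq_one_iff_mul_comm.mpr (Subgroup.mem_center_iff.mp h3 (ψ s)).symm
    let ρ : S' ⧸ R →* G ⧸ K := QuotientGroup.lift R θ (hθker ▸ hRL)
    have hρs : Function.Surjective ρ := fun w => by
      obtain ⟨s, hs⟩ := hθs w; exact ⟨ψ s, hs⟩
    have hCi : C.index ≤ 2 := by
      have hC' : C = centralizer ({ψ gs} : Set (S' ⧸ R)) := by
        refine le_antisymm (centralizer_le (Set.singleton_subset_iff.mpr (mem_map_of_mem _ hgJ))) fun w hw => ?_
        refine mem_centralizer_iff.mpr ?_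
        rintro _ ⟨j, hj, rfl⟩
        have hwg : Commute w (ψ gs) := mem_centralizer_singleton_iff.mp hw
        rcases hJdec j hj with h | h
        · exact ((Subgroup.mem_center_iff.mp (hLcen (mem_map_of_mem _ h)) w)).symm
        · have h1 : Commute w (ψ (gs⁻¹ * j)) := Subgroup.mem_center_iff.mp (hLcen (mem_map_of_mem _ h)) w
          have := hwg.mul_right h1
          rw [map_mul, map_inv, mul_inv_cancel_left] at this
          exact this.symm.eq
      have hle : Nat.card {y : S' ⧸ R // IsConj (ψ gs) y} ≤ Nat.card (L0.map ψ) := by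
        refine Nat.card_le_card_of_injective (fun y => (⟨(ψ gs)⁻¹ * y.1, ?_⟩ : L0.map ψ)) fun a b h =>
          Subtype.ext (mul_left_cancel (congrArg Subtype.val h))
        obtain ⟨c, hc⟩ := isConj_iff.mp y.2
        obtain ⟨s, rfl⟩ := hψs c
        rw [← hc, ← map_inv, ← map_inv, ← map_mul, ← map_mul, ← map_mul]
        refine mem_map_of_mem _ (Subgroup.mem_subgroupOf.mpr ?_)
        exact hcen' g' hg'S hg'N s s.2
      have heq : (centralizer ({ψ gs} : Set (S' ⧸ R))).index = Nat.card {y : S' ⧸ R // IsConj (ψ gs) y} := by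
        refine Nat.eq_of_mul_eq_mul_left (Nat.card_pos (α := centralizer ({ψ gs} : Set (S' ⧸ R)))) ?_
        rw [Subgroup.card_mul_index, mul_comm, card_class_mul]
      rw [hC', heq]
      exact hle.trans hLcard.le
    have hidx4 : (commutator (G ⧸ K)).index = 4 := by
      obtain ⟨k, hk⟩ := h2g.index (commutator (G ⧸ K))
      refine hL.index_four hk hq2' (C.map ρ) ?_ ?_ ?_
      · rw [← hJθ]
        rintro _ ⟨j, hj, rfl⟩
        refine ⟨ψ j, mem_centralizer_iff.mpr ?_, rfl⟩
        rintro _ ⟨i, hi, rfl⟩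
        rcases hJdec j hj with h | h
        · exact Subgroup.mem_center_iff.mp (hLcen (mem_map_of_mem _ h)) _
        · have hz := Subgroup.mem_center_iff.mp (hLcen (mem_map_of_mem _ h))
          rcases hJdec i hi with h' | h'
          · exact (Subgroup.mem_center_iff.mp (hLcen (mem_map_of_mem _ h')) _).symm
          · have hz' := Subgroup.mem_center_iff.mp (hLcen (mem_map_of_mem _ h'))
            have e1 : ψ j = ψ gs * ψ (gs⁻¹ * j) := by rw [← map_mul, mul_inv_cancel_left]
            have e2 : ψ i = ψ gs * ψ (gs⁻¹ * i) := by rw [← map_mul, mul_inv_cancel_left]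
            rw [e1, e2]
            exact (((Commute.refl (ψ gs)).mul_right (hz (ψ gs))).mul_left
              ((show Commute (ψ (gs⁻¹ * i)) (ψ gs) from (hz' _).symm).mul_right (hz _))).eq
      · exact le_trans (Nat.le_of_dvd (Nat.pos_of_ne_zero Subgroup.index_ne_zero_of_finite)
          (Subgroup.index_map_dvd C hρs)) hCi
      · rintro _ ⟨u, hu, rfl⟩ _ ⟨v, hv, rfl⟩
        rw [← commutatorElement_eq_one_iff_mul_comm, ← map_commutatorElement]
        obtain ⟨l, hl, hle⟩ := hCC u hu v hv
        rw [← hle]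
        show θ l = 1
        exact MonoidHom.mem_ker.mp (hθker.symm ▸ hl)
    -- Taussky
    have hJidx : J.index = 4 := by
      rw [← hidx4, ← hJθ, Subgroup.index_map_eq _ hθs (hθker ▸ hL0J)]
    have hcardH : Nat.card (G ⧸ K) = 8 := by
      rw [← (commutator (G ⧸ K)).card_mul_index, hidx4, ← hq, hq2']
    have hsq : ∀ s : S', s ^ 2 ∈ J := by
      intro s
      rw [hJmem, map_pow]
      set x := θ s
      by_contra h2
      have hx : x ∉ commutator (G ⧸ K) := fun h => h2 (pow_mem h 2)
      set Cx := centralizer ({x} : Set (G ⧸ K))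
      have hN : commutator (G ⧸ K) ≤ Cx := fun z hz => by
        rcases eq_or_ne z 1 with rfl | hz1
        · exact Cx.one_mem
        · have h3 := hL.card_centralizer_mem hz hz1
          rw [← hq, hq2', show 2 - 1 = 1 from rfl, one_mul] at h3
          exact mem_centralizer_singleton_iff.mpr
            (mem_centralizer_singleton_iff.mp (Subgroup.eq_top_of_card_eq _ h3 ▸ mem_top x)).symm
      have hcC : Nat.card Cx = 4 := by rw [hL.card_centralizer hx, hidx4]
      set μ := QuotientGroup.mk' (commutator (G ⧸ K))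
      have hord4 : orderOf (μ x) = 4 := by
        have hd : orderOf (μ x) ∣ 2 ^ 2 := by
          rw [show (2 : ℕ) ^ 2 = Nat.card ((G ⧸ K) ⧸ commutator (G ⧸ K)) by
            rw [← Subgroup.index_eq_card, hidx4]; rfl]
          exact orderOf_dvd_natCard _
        obtain ⟨i, hi, he⟩ := (Nat.dvd_prime_pow Nat.prime_two).mp hd
        have hno : ¬ orderOf (μ x) ∣ 2 := fun h => h2 ((QuotientGroup.eq_one_iff _).mp
          (by rw [← QuotientGroup.mk'_apply, map_pow]; exact orderOf_dvd_iff_pow_eq_one.mp h))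
        rcases i with _ | _ | _ | i
        · exact absurd (he ▸ one_dvd 2) hno
        · exact absurd (he ▸ (by norm_num : 2 ^ 1 ∣ 2)) hno
        · rw [he]; norm_num
        · omega
      have h4 : 4 ∣ Nat.card (Cx.map μ) :=
        hord4 ▸ (Subgroup.orderOf_mk (μ x) (mem_map_of_mem _ (mem_centralizer_singleton_iff.mpr rfl : x ∈ Cx))) ▸
          orderOf_dvd_natCard _
      have hker : Nat.card (μ.comp Cx.subtype).ker = 2 := by
        rw [← hq2', hq, show (μ.comp Cx.subtype).ker = (commutator (G ⧸ K)).subgroupOf Cx by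
          rw [← MonoidHom.comap_ker, QuotientGroup.ker_mk']; rfl]
        exact Nat.card_congr (Subgroup.subgroupOfEquivOfLe hN).toEquiv
      have h5 := Subgroup.card_mul_index (μ.comp Cx.subtype).ker
      rw [Subgroup.index_ker, MonoidHom.range_comp, Subgroup.range_subtype, hker, hcC] at h5
      have := Nat.le_of_dvd Nat.card_pos h4
      omega
    have hL2 : 2 ≤ Nat.card L0 := (Subgroup.one_lt_card_iff_ne_bot _).mpr hL0ne
    have hScard : Nat.card S' = Nat.card L0 * 8 := by
      rw [← hcardH, ← L0.card_mul_index, ← hθker, Subgroup.index_ker, MonoidHom.range_eq_top.mpr hθs,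
        Subgroup.card_top]
    obtain ⟨m, a, b, -, hao, hcS, -, hdec, -⟩ :=
      CfsgLib.TausskyTwo.cases_taussky S.isPGroup' hJidx hsq (le_of_le_of_eq (Nat.le_mul_of_pos_left 8 (by omega)) hScard.symm)
    have hA2 : (zpowers a).index = 2 := by
      have h1 := (zpowers a).card_mul_index
      rw [Nat.card_zpowers, hao, hcS, pow_succ] at h1
      exact Nat.eq_of_mul_eq_mul_left (by positivity) h1
    haveI := Subgroup.normal_of_index_eq_two hA2
    have hgA : gs ∈ zpowers a := by
      refine (show J ≤ zpowers a from ?_) hgJ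
      haveI : IsCyclic (S' ⧸ zpowers a) := isCyclic_of_prime_card (p := 2) (by
        rw [← Subgroup.index_eq_card, hA2])
      rw [hJ, _root_.commutator_def, commutator_le]
      intro u _ v _
      rw [← QuotientGroup.eq_one_iff, show ((⁅u, v⁆ : S') : S' ⧸ zpowers a) = ⁅(u : S' ⧸ zpowers a), (v : S' ⧸ zpowers a)⁆
        from map_commutatorElement (QuotientGroup.mk' (zpowers a)) u v, commutatorElement_eq_one_iff_mul_comm]
      exact IsCyclic.commGroup.mul_comm _ _
    have hL02 : Nat.card L0 ≤ 2 := by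
      have h1 : Nat.card L0 ≤ Nat.card {y : S' // IsConj gs y} :=
        Nat.card_le_card_of_injective (fun k => ⟨gs * k.1, isConj_iff.mpr (hclsL k.1 k.2)⟩)
          fun u v h => Subtype.ext (mul_left_cancel (congrArg Subtype.val h))
      have h2 := card_class_mul gs
      have h3 : 2 ^ m ≤ Nat.card (centralizer ({gs} : Set S')) := by
        rw [← hao, ← Nat.card_zpowers]
        refine Subgroup.card_le_of_le fun w hw => mem_centralizer_singleton_iff.mpr ?_
        obtain ⟨i, rfl⟩ := hw
        obtain ⟨j, hj⟩ := hgA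
        rw [← hj]
        exact (Commute.refl a).zpow_zpow i j
      rw [hcS, pow_succ'] at h2
      have h4 : Nat.card {y : S' // IsConj gs y} * 2 ^ m ≤ 2 * 2 ^ m :=
        h2 ▸ Nat.mul_le_mul_left _ h3
      exact h1.trans (Nat.le_of_mul_le_mul_right h4 (by positivity))
    have hgsq : gs ^ 2 ∈ L0 := Subgroup.mem_subgroupOf.mpr hg2
    have h22 : (gs ^ 2) ^ 2 = 1 := by
      have hc2 : Nat.card L0 = 2 := le_antisymm hL02 hL2
      have := pow_card_eq_one' (x := (⟨gs ^ 2, hgsq⟩ : L0))
      rw [hc2] at this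
      exact congrArg Subtype.val this
    rw [← pow_mul] at h22
    exact congrArg Subtype.val h22

end CfsgLib.OneSeen
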